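import Cfsg.Agent.Lib.Zassenhaus.Classes

/-!
# There are at least two more fixed-point-free classes than fixed classes of the two-point stabiliser
-/

set_option linter.style.haveILetI false
set_option linter.unusedSectionVars false

namespace Cfsg.Agent.Zass

open MulAction
open scoped Classical

universe u v

variable {G : Type u} [Group G] [Finite G] {Ω : Type v} [MulAction G Ω] [Fintype Ω]

namespace Data

variable {a b : Ω} {H : Subgroup G} (D : Data a b H)
include D

theorem isConj_inv_fixed {s : G} (hs : Swap a b s) (hev : Even (Nat.card H))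
    {x : two (G := G) a b} (hx : IsConj (sig hs x) x) : x = 1 := by
  rw [D.sig_eq_inv hev hs] at hx
  exact Cfsg.Agent.Char.eq_one_of_isConj_inv D.odd hx

theorem two_e_le (hodd : ¬ Even (Nat.card H)) :
    2 * Nat.card (two (G := G) a b) + 1 ≤ Nat.card H := by
  obtain ⟨j, hj⟩ := D.e_dvd
  have hh := D.two_le_h
  have hH := Nat.not_even_iff_odd.mp hodd
  rcases Nat.lt_or_ge j 2 with h | h
  · interval_cases j
    · omega
    · have he := D.odd
      rw [Nat.odd_iff] at hH he
      omega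
  · have : Nat.card (two (G := G) a b) * 2 ≤ Nat.card (two (G := G) a b) * j :=
      Nat.mul_le_mul_left _ h
    omega

/-- If every fixed-point-free element is an involution or conjugate to a product of a swapping
involution and a commuting element of the two-point stabiliser, only one involution swaps `a`, `b`. -/
theorem card_swaps_one (hodd : ¬ Even (Nat.card H))
    (hcov : ∀ g : G, (∀ c : Ω, g • c ≠ c) → g * g = 1 ∨ ∃ t : G, ∃ x : two (G := G) a b,
      Swap a b t ∧ x ≠ 1 ∧ Commute t (x : G) ∧ IsConj (t * (x : G)) g) :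
    Nat.card {t : G // orderOf t = 2 ∧ t • a = b} = 1 := by
  haveI : Fintype G := Fintype.ofFinite G
  set h := Nat.card H with hh
  set e := Nat.card (two (G := G) a b) with he
  set m := Nat.card {t : G // orderOf t = 2 ∧ t • a = b} with hm
  have hbound := D.two_e_le hodd
  have hh2 := D.two_le_h
  have hI := D.count_inv
  rw [if_neg hodd, Nat.sub_zero, mul_assoc] at hI
  have hI' : Nat.card {t : G // orderOf t = 2} = h * m :=
    Nat.eq_of_mul_eq_mul_left (by omega : 0 < h + 1) (by rw [← hI]; ring)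
  obtain ⟨s, hs⟩ := D.exists_swap
  have hm1 : 1 ≤ m := Nat.card_pos_iff.mpr
    ⟨⟨⟨s, orderOf_two_iff.mpr ⟨hs.sq, D.swap_ne_one hs⟩, hs.sa⟩⟩, inferInstance⟩
  have hme : m ≤ e := by
    rw [hm, D.card_swaps hs]
    exact Finite.card_subtype_le _
  set R : Finset G := Finset.univ.filter fun g => (∀ c : Ω, g • c ≠ c) ∧ g * g ≠ 1 with hR
  have hFsplit : Nat.card {g : G // ∀ c : Ω, g • c ≠ c} = h * m + R.card := by
    rw [← hI', Nat.card_eq_fintype_card, Fintype.card_subtype, Nat.card_eq_fintype_card,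
      Fintype.card_subtype, hR, ← Finset.card_union_of_disjoint]
    · congr 1
      ext g
      simp only [Finset.mem_filter, Finset.mem_union, Finset.mem_univ, true_and]
      constructor
      · intro hg
        by_cases h2 : g * g = 1
        · exact Or.inl (orderOf_two_iff.mpr ⟨h2, fun e1 => hg a (by rw [e1, one_smul])⟩)
        · exact Or.inr ⟨hg, h2⟩
      · rintro (hg | ⟨hg, -⟩)
        · have := D.inv_fixed hg
          rw [if_neg hodd, Finset.card_eq_zero, Finset.filter_eq_empty_iff] at this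
          exact fun c => this (Finset.mem_univ c)
        · exact hg
    · rw [Finset.disjoint_filter]
      rintro g - hg ⟨-, h2⟩
      exact h2 (orderOf_two_iff.mp hg).1
  have hdvd : h * (h + 1) ∣ 2 * R.card := by
    rw [Finset.card_eq_sum_card_image ConjClasses.mk R, Finset.mul_sum]
    refine Finset.dvd_sum fun C hC => ?_
    obtain ⟨g, hg, rfl⟩ := Finset.mem_image.mp hC
    obtain ⟨hgf, hg2⟩ := (Finset.mem_filter.mp hg).2
    have hset : R.filter (fun k => ConjClasses.mk k = ConjClasses.mk g) =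
        Cfsg.Agent.Char.classFinset g := by
      ext k
      simp only [hR, Cfsg.Agent.Char.classFinset, Finset.mem_filter, Finset.mem_univ, true_and,
        ConjClasses.mk_eq_mk_iff_isConj]
      refine ⟨fun h' => h'.2.symm, fun hk => ⟨⟨fpf_conj hk hgf, fun hk2 => hg2 ?_⟩, hk.symm⟩⟩
      obtain ⟨y, rfl⟩ := isConj_iff.mp hk
      rw [show y * g * y⁻¹ * (y * g * y⁻¹) = y * (g * g) * y⁻¹ by group] at hk2
      exact conj_eq_one_iff.mp hk2
    rw [hset]
    obtain ⟨t, x, ht, hx, hc, hconj⟩ := (hcov g hgf).resolve_left hg2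
    obtain ⟨d, ⟨q, hq⟩, hd⟩ := D.card_centralizer_swap ht hx hc
    have hcl : Cfsg.Agent.Char.classFinset g = Cfsg.Agent.Char.classFinset (t * (x : G)) := by
      ext k
      simp only [Cfsg.Agent.Char.classFinset, Finset.mem_filter, Finset.mem_univ, true_and]
      exact ⟨hconj.trans, hconj.symm.trans⟩
    have hi := Subgroup.index_mul_card (Subgroup.centralizer ({t * (x : G)} : Set G))
    rw [hd, D.card_group, hq, ← hh, ← Cfsg.Agent.Char.card_classFinset, ← hcl] at hi
    have hd0 : 0 < d := by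
      rcases Nat.eq_zero_or_pos d with rfl | h0
      · have := Nat.card_pos (α := two (G := G) a b); rw [hq, zero_mul] at this; omega
      · exact h0
    exact ⟨q, Nat.eq_of_mul_eq_mul_right hd0 (by linarith)⟩
  obtain ⟨k, hk⟩ := hdvd
  have hF := D.two_mul_card_fpf
  rw [hFsplit, D.card_group, mul_add, hk, ← hh, ← he] at hF
  obtain ⟨j, hj⟩ := Nat.exists_eq_add_of_le (show 1 ≤ h by omega)
  rw [show h - 1 = j by omega] at hF
  have h3 : 2 * m + (h + 1) * k + j = (h + 1) * e :=
    Nat.eq_of_mul_eq_mul_left (by omega : 0 < h) (by linarith)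
  have h4 : ((h + 1 : ℕ) : ℤ) * ((e : ℤ) - k - 1) = 2 * (m : ℤ) - 2 := by
    have h3' : (2 : ℤ) * m + (h + 1) * k + j = (h + 1) * e := by exact_mod_cast h3
    have hj' : (h : ℤ) = 1 + j := by exact_mod_cast hj
    push_cast
    linarith
  rcases le_or_gt ((e : ℤ) - k - 1) 0 with h5 | h5
  · have : ((h + 1 : ℕ) : ℤ) * ((e : ℤ) - k - 1) ≤ 0 :=
      mul_nonpos_of_nonneg_of_nonpos (by positivity) h5
    omega
  · have : ((h + 1 : ℕ) : ℤ) * 1 ≤ ((h + 1 : ℕ) : ℤ) * ((e : ℤ) - k - 1) :=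
      mul_le_mul_of_nonneg_left (by omega) (by positivity)
    omega

theorem not_cover (hodd : ¬ Even (Nat.card H))
    (hcov : ∀ g : G, (∀ c : Ω, g • c ≠ c) → g * g = 1 ∨ ∃ t : G, ∃ x : two (G := G) a b,
      Swap a b t ∧ x ≠ 1 ∧ Commute t (x : G) ∧ IsConj (t * (x : G)) g) : False := by
  obtain ⟨hsub, -⟩ := Nat.card_eq_one_iff_unique.mp (D.card_swaps_one hodd hcov)
  have huniq : ∀ {t t' : G}, Swap a b t → Swap a b t' → t = t' := fun {t t'} h h' =>
    congrArg Subtype.val (hsub.elim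
      ⟨t, orderOf_two_iff.mpr ⟨h.sq, D.swap_ne_one h⟩, h.sa⟩
      ⟨t', orderOf_two_iff.mpr ⟨h'.sq, D.swap_ne_one h'⟩, h'.sa⟩)
  have hpair : ∀ {t t' : G} {p : Ω}, t * t = 1 → t' * t' = 1 → t • p = t' • p → t • p ≠ p → t = t' := by
    intro t t' p ht ht' he hp
    obtain ⟨g, g1, g2⟩ := move D.zg (Ne.symm hp) D.ne
    have key : ∀ {u : G}, u * u = 1 → u • p = t • p → Swap a b (g * u * g⁻¹) := fun {u} hu hup =>
      D.swap_of_inv (by rw [show g * u * g⁻¹ * (g * u * g⁻¹) = g * (u * u) * g⁻¹ by group, hu]; group)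
        (by rw [← g1, mul_smul, mul_smul, inv_smul_smul, hup, g2])
    exact mul_left_cancel (mul_right_cancel (huniq (key ht rfl) (key ht' he.symm)))
  have hinvfpf : ∀ {t : G}, t * t = 1 → t ≠ 1 → ∀ c : Ω, t • c ≠ c := by
    intro t ht ht1 c
    have := D.inv_fixed (orderOf_two_iff.mpr ⟨ht, ht1⟩)
    rw [if_neg hodd, Finset.card_eq_zero, Finset.filter_eq_empty_iff] at this
    exact this (Finset.mem_univ c)
  have hclosed : ∀ t1 t2 : G, t1 * t1 = 1 → t2 * t2 = 1 → t1 * t2 * (t1 * t2) = 1 := by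
    intro t1 t2 h1 h2
    rcases eq_or_ne t1 1 with rfl | h11
    · simpa using h2
    rcases eq_or_ne t2 1 with rfl | h21
    · simpa using h1
    rcases eq_or_ne t1 t2 with rfl | h12
    · simp [h1]
    have hfpf : ∀ c : Ω, (t1 * t2) • c ≠ c := by
      intro c hc
      rw [mul_smul] at hc
      have he : t1 • c = t2 • c := by
        conv_lhs => rw [← hc]
        rw [← mul_smul, h1, one_smul]
      exact h12 (hpair h1 h2 he (hinvfpf h1 h11 c))
    by_contra hne
    obtain ⟨t, x, ht, hx, hc, hconj⟩ := (hcov _ hfpf).resolve_left hne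
    obtain ⟨k, hk⟩ := isConj_iff.mp hconj
    obtain ⟨-, hsq⟩ := D.mul_fpf ht hx hc
    set t' := k⁻¹ * t1 * k with ht'
    have h1' : t1⁻¹ = t1 := inv_eq_of_mul_eq_one_left h1
    have h2' : t2⁻¹ = t2 := inv_eq_of_mul_eq_one_left h2
    have hinv : t' * (t * x) * t'⁻¹ = (t * (x : G))⁻¹ := by
      rw [show t * (x : G) = k⁻¹ * (t1 * t2) * k by rw [← hk]; group, ht',
        show k⁻¹ * t1 * k * (k⁻¹ * (t1 * t2) * k) * (k⁻¹ * t1 * k)⁻¹ =
          k⁻¹ * ((t1 * t1) * (t2 * t1⁻¹)) * k by group, h1, one_mul,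
        show (k⁻¹ * (t1 * t2) * k)⁻¹ = k⁻¹ * (t2⁻¹ * t1⁻¹) * k by group, h2']
    have hinv2 : t' * ((x * x : two (G := G) a b) : G) * t'⁻¹ = (((x * x)⁻¹ : two (G := G) a b) : G) := by
      rw [Subgroup.coe_inv, ← hsq, ← conj_mul, hinv, ← mul_inv_rev]
    rcases D.two_ti (x * x).2 (fun h => D.sq_ne_one hx (Subtype.ext h))
      (hinv2 ▸ ((x * x)⁻¹).2) with ⟨hta, -⟩ | ⟨hta, -⟩
    · refine hinvfpf h1 h11 (k • a) ?_
      rw [ht', mul_smul, mul_smul, inv_smul_eq_iff] at hta
      exact hta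
    · have hs' : Swap a b t' := D.swap_of_inv (by
        rw [ht', show k⁻¹ * t1 * k * (k⁻¹ * t1 * k) = k⁻¹ * (t1 * t1) * k by group, h1]; group) hta
      rw [huniq hs' ht] at hinv2
      have hc2 : Commute t ((x * x : two (G := G) a b) : G) := by
        rw [Subgroup.coe_mul]; exact hc.mul_right hc
      rw [hc2.eq, mul_inv_cancel_right] at hinv2
      exact D.sq_ne_one (D.sq_ne_one hx) (mul_eq_one_iff_eq_inv.mpr (Subtype.ext hinv2))
  let N : Subgroup G :=
    { carrier := {g | g * g = 1}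
      mul_mem' := fun {g g'} hg hg' => hclosed g g' hg hg'
      one_mem' := one_mul 1
      inv_mem' := fun {g} hg => by
        show g⁻¹ * g⁻¹ = 1
        rw [← mul_inv_rev, show g * g = 1 from hg, inv_one] }
  have hNn : N.Normal := ⟨fun g (hg : g * g = 1) y => by
    show y * g * y⁻¹ * (y * g * y⁻¹) = 1
    rw [show y * g * y⁻¹ * (y * g * y⁻¹) = y * (g * g) * y⁻¹ by group, hg]; group⟩
  have htrans : MulAction.IsPretransitive N Ω := ⟨fun p q => by
    rcases eq_or_ne p q with rfl | hpq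
    · exact ⟨1, one_smul _ _⟩
    obtain ⟨s, hs⟩ := D.exists_swap
    obtain ⟨g, g1, g2⟩ := D.move_to hpq
    refine ⟨⟨g * s * g⁻¹, show _ * _ = 1 by
      rw [show g * s * g⁻¹ * (g * s * g⁻¹) = g * (s * s) * g⁻¹ by group, hs.sq]; group⟩, ?_⟩
    show (g * s * g⁻¹) • p = q
    rw [← g1, mul_smul, mul_smul, inv_smul_smul, hs.sa, g2]⟩
  obtain ⟨c, hc⟩ := D.zg.2.2.2.2 N hNn htrans
  obtain ⟨g, hg, hg1⟩ := (Subgroup.bot_or_exists_ne_one _).resolve_left hc
  exact hinvfpf g.2 (fun h => hg1 (Subtype.ext h)) c hg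

/-- The counting lemma. -/
theorem card_fixed_lt {s : G} (hs : Swap a b s) :
    Nat.card (FixedCls hs) < Nat.card (FpfCls G Ω) := by
  haveI : Finite (ConjClasses G) := Finite.of_surjective ConjClasses.mk ConjClasses.mk_surjective
  haveI : Finite (ConjClasses (two (G := G) a b)) :=
    Finite.of_surjective ConjClasses.mk ConjClasses.mk_surjective
  by_cases hev : Even (Nat.card H)
  · haveI : Subsingleton (FixedCls hs) := ⟨fun C C' => by
      obtain ⟨x, hx⟩ := ConjClasses.mk_surjective C.1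
      obtain ⟨y, hy⟩ := ConjClasses.mk_surjective C'.1
      refine Subtype.ext ?_
      rw [← hx, ← hy, D.isConj_inv_fixed hs hev (C.2 x hx), D.isConj_inv_fixed hs hev (C'.2 y hy)]⟩
    have h1 := Finite.card_le_one_iff_subsingleton.mpr ‹Subsingleton (FixedCls hs)›
    have h2 := D.two_le_fpf_of_even hev
    omega
  have hsf : ∀ c : Ω, s • c ≠ c := fun c => by
    have := D.inv_fixed (orderOf_two_iff.mpr ⟨hs.sq, D.swap_ne_one hs⟩)
    rw [if_neg hev, Finset.card_eq_zero, Finset.filter_eq_empty_iff] at this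
    exact this (Finset.mem_univ c)
  have hdata : ∀ C : FixedCls hs, ∃ x : two (G := G) a b, ConjClasses.mk x = C.1 ∧
      ∃ g : G, (∀ c : Ω, g • c ≠ c) ∧ (x = 1 → g = s) ∧ (x ≠ 1 → ∃ t : G,
        Swap a b t ∧ Commute t (x : G) ∧ g = t * x) := by
    intro C
    obtain ⟨x, hx⟩ := ConjClasses.mk_surjective C.1
    refine ⟨x, hx, ?_⟩
    by_cases h1 : x = 1
    · exact ⟨s, hsf, fun _ => rfl, fun h => absurd h1 h⟩
    · obtain ⟨t, ht, htc⟩ := D.fixed_exists_swap hs (C.2 x hx)
      exact ⟨t * x, (D.mul_fpf ht h1 htc).1, fun h => absurd h h1, fun _ => ⟨t, ht, htc, rfl⟩⟩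
  choose x hx g hgf hg1 hgx using hdata
  let φ : FixedCls hs → FpfCls G Ω := fun C =>
    ⟨ConjClasses.mk (g C), fun k hk => fpf_conj (ConjClasses.mk_eq_mk_iff_isConj.mp hk.symm) (hgf C)⟩
  have hinj : Function.Injective φ := by
    intro C C' hCC
    have hconj : IsConj (g C) (g C') := ConjClasses.mk_eq_mk_iff_isConj.mp (congrArg Subtype.val hCC)
    have hconj2 : IsConj (g C * g C) (g C' * g C') := by
      obtain ⟨y, hy⟩ := isConj_iff.mp hconj
      exact isConj_iff.mpr ⟨y, by rw [← hy]; group⟩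
    have hsq : ∀ B, g B * g B = ((x B * x B : two (G := G) a b) : G) := by
      intro B
      by_cases h1 : x B = 1
      · rw [hg1 B h1, hs.sq, h1]; simp
      · obtain ⟨t, ht, htc, hgB⟩ := hgx B h1
        rw [hgB]; exact (D.mul_fpf ht h1 htc).2
    rw [hsq, hsq] at hconj2
    refine Subtype.ext ?_
    rw [← hx C, ← hx C', ConjClasses.mk_eq_mk_iff_isConj]
    by_cases h1 : x C = 1
    · rw [h1] at hconj2 ⊢
      by_cases h2 : x C' = 1
      · rw [h2]
      · simp only [mul_one, OneMemClass.coe_one] at hconj2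
        exact absurd (Subtype.ext (isConj_one_right.mp hconj2)) (D.sq_ne_one h2)
    · exact D.conj_of_sq_conj hs h1 (C.2 _ (hx C)) hconj2
  refine lt_of_le_of_ne (Nat.card_le_card_of_injective φ hinj) fun hcard => ?_
  obtain ⟨-, hsur⟩ := (Nat.bijective_iff_injective_and_card φ).mpr ⟨hinj, hcard⟩
  refine D.not_cover hev fun k hk => ?_
  obtain ⟨C, hC⟩ := hsur ⟨ConjClasses.mk k, fun l hl => fpf_conj (ConjClasses.mk_eq_mk_iff_isConj.mp hl.symm) hk⟩
  have hconj : IsConj (g C) k := ConjClasses.mk_eq_mk_iff_isConj.mp (congrArg Subtype.val hC)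
  by_cases h1 : x C = 1
  · left
    obtain ⟨y, rfl⟩ := isConj_iff.mp hconj
    rw [hg1 C h1, show y * s * y⁻¹ * (y * s * y⁻¹) = y * (s * s) * y⁻¹ by group, hs.sq]; group
  · obtain ⟨t, ht, htc, hgC⟩ := hgx C h1
    exact Or.inr ⟨t, x C, ht, h1, htc, hgC ▸ hconj⟩

theorem two_le_fpf : 2 ≤ Nat.card (FpfCls G Ω) := by
  obtain ⟨s, hs⟩ := D.exists_swap
  haveI : Finite (ConjClasses (two (G := G) a b)) :=
    Finite.of_surjective ConjClasses.mk ConjClasses.mk_surjective
  haveI : Nonempty (FixedCls hs) := ⟨⟨ConjClasses.mk 1, fun x hx => by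
    rw [(isConj_one_right.mp (ConjClasses.mk_eq_mk_iff_isConj.mp hx.symm) : x = 1), map_one]⟩⟩
  have := Nat.card_pos (α := FixedCls hs)
  have := D.card_fixed_lt hs
  omega

end Data

end Cfsg.Agent.Zass
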