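import Cfsg.Agent.Lib.Zassenhaus.Exceptional
import Cfsg.Agent.Lib.Zassenhaus.FpfCount
import Mathlib.LinearAlgebra.Dimension.RankNullity
import Mathlib.LinearAlgebra.Dimension.Constructions

/-!
# Feit's inequality for Zassenhaus groups
-/

set_option linter.style.haveILetI false
set_option linter.unusedSectionVars false

namespace Cfsg.Agent.Zass

open MulAction Cfsg.Agent.Char
open scoped Classical ComplexConjugate

universe u v

/-- A character of norm two is the sum of two irreducible characters. -/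
theorem split_two {G : Type u} [Group G] [Fintype G] {χ : G → ℂ} (hχ : Cfsg.IsCharacter G χ)
    (h2 : Cfsg.classInner χ χ = 2) :
    ∃ θ θ' : G → ℂ, Cfsg.IsIrrCharacter G θ ∧ Cfsg.IsIrrCharacter G θ' ∧ θ ≠ θ' ∧ χ = θ + θ' := by
  have hne : χ ≠ 0 := fun h => by rw [h] at h2; simp [Cfsg.classInner] at h2
  obtain ⟨ψ, hψ⟩ := IsCharacter.exists_constituent hχ hne
  obtain ⟨n, hn⟩ := IsCharacter.exists_classInner_nat hχ (IsIrrCharacter.isCharacter ψ.2)
  have hn' : Cfsg.classInner (ψ : G → ℂ) χ = n := by rw [← classInner_conj_symm, hn, map_natCast]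
  have hn0 : n ≠ 0 := fun h => hψ (by rw [hn, h, Nat.cast_zero])
  have hgen : Cfsg.IsGeneralizedCharacter G (χ - (ψ : G → ℂ)) :=
    IsGeneralizedCharacter.sub (IsGeneralizedCharacter.of_isCharacter hχ)
      (IsGeneralizedCharacter.of_isCharacter (IsIrrCharacter.isCharacter ψ.2))
  have hnorm : Cfsg.classInner (χ - (ψ : G → ℂ)) (χ - (ψ : G → ℂ)) = ((3 - 2 * (n : ℤ) : ℤ) : ℂ) := by
    rw [classInner_sub_left, classInner_sub_right, classInner_sub_right, h2, hn, hn',
      classInner_self_irr ψ.2]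
    push_cast
    ring
  have hn1 : n = 1 := by
    have h0 := classInner_self_nonneg (χ - (ψ : G → ℂ))
    rw [hnorm, Complex.intCast_re] at h0
    have : (0 : ℤ) ≤ 3 - 2 * (n : ℤ) := by exact_mod_cast h0
    omega
  subst hn1
  rw [show ((3 - 2 * ((1 : ℕ) : ℤ) : ℤ) : ℂ) = 1 by norm_num] at hnorm
  rcases IsGeneralizedCharacter.of_norm_one hgen hnorm with h | h
  · refine ⟨ψ, _, ψ.2, h, fun e => ?_, (add_sub_cancel _ _).symm⟩
    have h3 := classInner_self_irr ψ.2
    nth_rewrite 1 [e] at h3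
    rw [classInner_sub_left, hn, classInner_self_irr ψ.2] at h3
    norm_num at h3
  · exfalso
    obtain ⟨m, hm⟩ := IsCharacter.exists_classInner_nat hχ (IsIrrCharacter.isCharacter h)
    rw [classInner_neg_right, classInner_sub_right, h2, hn] at hm
    have h4 : ((m + 1 : ℕ) : ℂ) = 0 := by push_cast at hm ⊢; linear_combination -hm
    exact absurd (Nat.cast_eq_zero.mp h4) (by omega)

variable {G : Type u} [Group G] [Fintype G] {Ω : Type v} [MulAction G Ω] [Fintype Ω]

namespace Data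

variable {a b : Ω} {H : Subgroup G} (D : Data a b H)
include D

theorem res_irr {μ : stabilizer G a → ℂ} (hμ : Cfsg.IsIrrCharacter _ μ)
    (hμH : ∀ v : stabilizer G a, (v : G) ∈ H → μ v = μ 1) :
    Cfsg.IsIrrCharacter (two (G := G) a b) (res a b μ) := by
  have hc := IsIrrCharacter.isCharacter hμ
  refine IsCharacter.isIrr_of_norm_one (IsCharacter.comp hc (emb a b)) ?_
  show Cfsg.classInner (res a b μ) (res a b μ) = 1
  rw [← D.inner_eq_res (IsCharacter.isClassFunction hc) (IsCharacter.isClassFunction hc) hμH hμH,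
    classInner_self_irr hμ]

theorem eq_of_res {μ ν : stabilizer G a → ℂ} (hμ : Cfsg.IsIrrCharacter _ μ)
    (hν : Cfsg.IsIrrCharacter _ ν) (hμH : ∀ v : stabilizer G a, (v : G) ∈ H → μ v = μ 1)
    (hνH : ∀ v : stabilizer G a, (v : G) ∈ H → ν v = ν 1) (h : res a b μ = res a b ν) : μ = ν := by
  by_contra hne
  have h1 := classInner_irr_of_ne hμ hν hne
  rw [D.inner_eq_res (IsCharacter.isClassFunction (IsIrrCharacter.isCharacter hμ))
    (IsCharacter.isClassFunction (IsIrrCharacter.isCharacter hν)) hμH hνH, h,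
    classInner_self_irr (D.res_irr hν hνH)] at h1
  exact one_ne_zero h1

theorem sig_irr {s : G} (hs : Swap a b s) {φ : two (G := G) a b → ℂ}
    (hφ : Cfsg.IsIrrCharacter _ φ) : Cfsg.IsIrrCharacter _ (fun x => φ (sig hs x)) :=
  IsIrrCharacter.comp hφ (sig hs) fun y => ⟨sig hs y, sig_sig hs y⟩

/-- The induced character is irreducible, or the character is fixed and it has norm two. -/
theorem norm_ind {μ : stabilizer G a → ℂ} (hμ : Cfsg.IsIrrCharacter _ μ)
    (hμH : ∀ v : stabilizer G a, (v : G) ∈ H → μ v = μ 1) {s : G} (hs : Swap a b s) :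
    Cfsg.classInner (Cfsg.indFun (stabilizer G a) μ) (Cfsg.indFun (stabilizer G a) μ) =
      if (fun x => res a b μ (sig hs x)) = res a b μ then 2 else 1 := by
  have hcl := IsCharacter.isClassFunction (IsIrrCharacter.isCharacter hμ)
  have hr := D.res_irr hμ hμH
  rw [D.inner_ind hcl hcl hμH hμH hs, classInner_self_irr hr]
  split_ifs with h
  · rw [h, classInner_self_irr hr]; norm_num
  · rw [classInner_irr_of_ne hr (D.sig_irr hs hr) (Ne.symm h), add_zero]

theorem card_fixed_irr_eq {s : G} (hs : Swap a b s) :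
    Nat.card {φ : Cfsg.IrrCharacter (two (G := G) a b) //
      (fun x => (φ : two (G := G) a b → ℂ) (sig hs x)) = (φ : two (G := G) a b → ℂ)} =
      Nat.card (FixedCls hs) :=
  card_fixed_irr (sig hs) (fun x y h => (sig hs).map_isConj h) fun χ hχ => D.sig_irr hs hχ

theorem exists_fpf_function {s : G} (hs : Swap a b s) {J : Type u} [Fintype J] (θ : J → G → ℂ)
    (hJ : Nat.card J ≤ Nat.card (FixedCls hs)) :
    ∃ f : G → ℂ, f ≠ 0 ∧ Cfsg.IsClassFunction G f ∧ (∀ g, ∀ c : Ω, g • c = c → f g = 0) ∧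
      ∀ j, Cfsg.classInner f (θ j) = 0 := by
  haveI : Finite (ConjClasses G) := Finite.of_surjective ConjClasses.mk ConjClasses.mk_surjective
  haveI : Fintype (FpfCls G Ω) := Fintype.ofFinite _
  have hmk : ∀ g : G, (∀ c : Ω, g • c ≠ c) →
      ∀ k, ConjClasses.mk k = ConjClasses.mk g → ∀ c : Ω, k • c ≠ c :=
    fun g hg k hk => fpf_conj (ConjClasses.mk_eq_mk_iff_isConj.mp hk.symm) hg
  let F : (FpfCls G Ω → ℂ) →ₗ[ℂ] (G → ℂ) :=
    { toFun := fun v g => if hg : ∀ c : Ω, g • c ≠ c then v ⟨ConjClasses.mk g, hmk g hg⟩ else 0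
      map_add' := fun v w => by funext g; simp only [Pi.add_apply]; split_ifs <;> simp
      map_smul' := fun r v => by funext g; simp only [Pi.smul_apply, RingHom.id_apply]; split_ifs <;> simp }
  let L : (FpfCls G Ω → ℂ) →ₗ[ℂ] (J → ℂ) :=
    { toFun := fun v j => Cfsg.classInner (F v) (θ j)
      map_add' := fun v w => by funext j; rw [map_add, classInner_add_left]; rfl
      map_smul' := fun r v => by funext j; rw [map_smul, classInner_smul_left]; rfl }
  have hlt : Module.finrank ℂ (J → ℂ) < Module.finrank ℂ (FpfCls G Ω → ℂ) := by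
    rw [Module.finrank_pi, Module.finrank_pi, ← Nat.card_eq_fintype_card, ← Nat.card_eq_fintype_card]
    exact hJ.trans_lt (D.card_fixed_lt hs)
  obtain ⟨v, hv, hv0⟩ := Submodule.exists_mem_ne_zero_of_ne_bot (LinearMap.ker_ne_bot_of_finrank_lt (f := L) hlt)
  refine ⟨F v, fun h => hv0 (funext fun C => ?_), fun g y => ?_, fun g c hc => dif_neg fun h => h c hc,
    fun j => congrFun (LinearMap.mem_ker.mp hv) j⟩
  · obtain ⟨g, hg⟩ := ConjClasses.mk_surjective C.1
    have hgf := C.2 g hg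
    have := congrFun h g
    rw [show F v g = v ⟨ConjClasses.mk g, hmk g hgf⟩ from dif_pos hgf] at this
    rw [show C = ⟨ConjClasses.mk g, hmk g hgf⟩ from Subtype.ext hg.symm]
    exact this
  · have hc : IsConj g (y * g * y⁻¹) := isConj_iff.mpr ⟨y, rfl⟩
    by_cases hg : ∀ c : Ω, g • c ≠ c
    · rw [show F v g = v ⟨ConjClasses.mk g, hmk g hg⟩ from dif_pos hg,
        show F v (y * g * y⁻¹) = v ⟨ConjClasses.mk (y * g * y⁻¹), hmk _ (fpf_conj hc hg)⟩
          from dif_pos (fpf_conj hc hg)]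
      exact congrArg v (Subtype.ext (ConjClasses.mk_eq_mk_iff_isConj.mpr hc.symm))
    · rw [show F v g = 0 from dif_neg hg, show F v (y * g * y⁻¹) = 0 from
        dif_neg fun h => hg (fpf_conj hc.symm h)]

/-- A character with nonzero average on `H` lies over a character of the stabiliser trivial on `H`. -/
theorem exists_under {θ : G → ℂ} (hθ : Cfsg.IsClassFunction G θ) (h0 : ∑ u : H, θ u ≠ 0) :
    ∃ μ : stabilizer G a → ℂ, Cfsg.IsIrrCharacter _ μ ∧
      (∀ v : stabilizer G a, (v : G) ∈ H → μ v = μ 1) ∧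
      Cfsg.classInner θ (Cfsg.indFun (stabilizer G a) μ) ≠ 0 := by
  haveI hn : (H.subgroupOf (stabilizer G a)).Normal := ⟨fun u hu g => by
    simp only [Subgroup.mem_subgroupOf, Subgroup.coe_mul, Subgroup.coe_inv] at hu ⊢
    exact D.conj_mem g.2 hu⟩
  have hF : ∀ k ∈ H.subgroupOf (stabilizer G a), k ≠ 1 →
      Subgroup.centralizer ({k} : Set (stabilizer G a)) ≤ H.subgroupOf (stabilizer G a) := by
    intro k hk h1 g hg
    refine Subgroup.mem_subgroupOf.mpr (D.centralizer_le hk (fun e => h1 (Subtype.ext e)) ?_)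
    exact Subgroup.mem_centralizer_singleton_iff.mpr
      (congrArg Subtype.val (Subgroup.mem_centralizer_singleton_iff.mp hg))
  set φ : stabilizer G a → ℂ := fun g => θ g with hφ
  have hφc : Cfsg.IsClassFunction _ φ := fun g y => hθ g y
  by_contra hcon
  push Not at hcon
  refine h0 ?_
  have hu : ∀ u : H, θ u = ∑ χ : Cfsg.IrrCharacter (stabilizer G a),
      Cfsg.classInner φ χ * (χ : stabilizer G a → ℂ) (Subgroup.inclusion D.le u) := fun u => by
    have h := congrFun (classFunction_eq_sum hφc) (Subgroup.inclusion D.le u)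
    simpa [hφ, Finset.sum_apply] using h
  rw [Finset.sum_congr rfl fun u _ => hu u, Finset.sum_comm]
  refine Finset.sum_eq_zero fun χ _ => ?_
  rw [← Finset.mul_sum]
  by_cases hrel : Frob.Rel (H.subgroupOf (stabilizer G a)) (χ : stabilizer G a → ℂ)
  · refine mul_eq_zero_of_right _ ?_
    rw [← Frob.sum_K_eq_zero hF χ.2 hrel]
    refine Eq.trans ?_ (Finset.sum_filter_add_sum_filter_not Finset.univ
      (fun g : stabilizer G a => (g : G) ∈ H) _)
    rw [Finset.sum_eq_zero (s := Finset.univ.filter fun g : stabilizer G a => ¬ (g : G) ∈ H)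
      fun g hg => Frob.vanish hF χ.2 hrel (g := g)
        (fun h => (Finset.mem_filter.mp hg).2 (Subgroup.mem_subgroupOf.mp h)), add_zero]
    refine Finset.sum_bij' (fun u _ => Subgroup.inclusion D.le u)
      (fun g hg => ⟨(g : G), (Finset.mem_filter.mp hg).2⟩)
      (fun u _ => Finset.mem_filter.mpr ⟨Finset.mem_univ _, u.2⟩) (fun _ _ => Finset.mem_univ _)
      (fun _ _ => rfl) (fun _ _ => rfl) (fun _ _ => rfl)
  · refine mul_eq_zero_of_left ?_ _
    rw [← classInner_indFun_right (stabilizer G a) _ hθ]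
    exact hcon χ χ.2 fun v hv => Frob.apply_of_not_rel hrel (Subgroup.mem_subgroupOf.mpr hv)

theorem sum_H_eq {θ : G → ℂ} {c : ℂ} (hc : ∀ u ∈ H, u ≠ 1 → θ u = c) :
    ∑ u : H, θ u = θ 1 + ((Nat.card H : ℂ) - 1) * c := by
  have h : ∀ u : H, θ u = c + if u = 1 then θ 1 - c else 0 := by
    intro u
    split_ifs with h1
    · subst h1; simp
    · rw [add_zero, hc u u.2 fun e => h1 (Subtype.ext e)]
  rw [Finset.sum_congr rfl fun u _ => h u, Finset.sum_add_distrib, Finset.sum_const, Finset.sum_ite_eq',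
    if_pos (Finset.mem_univ _), Finset.card_univ, nsmul_eq_mul, ← Nat.card_eq_fintype_card]
  ring

theorem le_two_e_of_sum_zero {θ : G → ℂ} (hθ : Cfsg.IsIrrCharacter G θ) {c : ℂ}
    (hc : ∀ u ∈ H, u ≠ 1 → θ u = c) (h0 : θ 1 + ((Nat.card H : ℂ) - 1) * c = 0) :
    Nat.card H - 1 ≤ 2 * Nat.card (two (G := G) a b) := by
  obtain ⟨d, -, hd⟩ := IsIrrCharacter.exists_degree hθ
  obtain ⟨u, hu, hu1⟩ := (Subgroup.bot_or_exists_ne_one H).resolve_left D.H_ne_bot
  have hh := D.two_le_h
  set h := Nat.card H with hdef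
  have hdvd : h - 1 ∣ d := by
    refine dvd_of_isIntegral_div (by omega) ?_
    have hne : ((h - 1 : ℕ) : ℂ) ≠ 0 := Nat.cast_ne_zero.mpr (by omega)
    have e : (d : ℂ) / ((h - 1 : ℕ) : ℂ) = -c := by
      rw [div_eq_iff hne, Nat.cast_sub (by omega), Nat.cast_one]
      rw [hd] at h0
      linear_combination h0
    rw [e, ← hc u hu hu1]
    exact (IsCharacter.isIntegral (IsIrrCharacter.isCharacter hθ) u).neg
  have hG := hdvd.trans (degree_dvd_card hθ hd)
  rw [D.card_group, ← hdef] at hG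
  obtain ⟨j, hj⟩ := Nat.exists_eq_add_of_le (show 1 ≤ h by omega)
  rw [hj, Nat.add_sub_cancel_left] at hG ⊢
  have hcop : Nat.Coprime j (1 + j) := by simp
  rw [show (1 + j + 1) * ((1 + j) * Nat.card (two (G := G) a b)) =
    (1 + j) * (j * Nat.card (two (G := G) a b) + 2 * Nat.card (two (G := G) a b)) by ring] at hG
  have h2 := (Nat.dvd_add_right (dvd_mul_right j _)).mp (hcop.dvd_of_dvd_mul_left hG)
  have := D.three_le_e
  exact Nat.le_of_dvd (by omega) h2

theorem inner_fpf_ind {f : G → ℂ} (hf : Cfsg.IsClassFunction G f)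
    (hS : ∀ g, ∀ c : Ω, g • c = c → f g = 0) (μ : stabilizer G a → ℂ) :
    Cfsg.classInner f (Cfsg.indFun (stabilizer G a) μ) = 0 := by
  rw [classInner_indFun_right _ _ hf, Cfsg.classInner, Finset.sum_eq_zero (fun g _ => ?_), mul_zero]
  rw [hS g a g.2, zero_mul]

/-- The contradiction from coherence. -/
theorem not_coherent (hbig : 2 * Nat.card (two (G := G) a b) < Nat.card H - 1)
    (hcoh : Cfsg.IsCoherent (SSet H) ({1}ᶜ : Set _)
      (fun α => Cfsg.indFun (Subgroup.normalizer (H : Set G)) α)) : False := by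
  obtain ⟨T, w, hw⟩ := D.exists_exc hcoh
  obtain ⟨s, hs⟩ := D.exists_swap
  let J := {μ : Cfsg.IrrCharacter (stabilizer G a) //
    (∀ v : stabilizer G a, (v : G) ∈ H → (μ : stabilizer G a → ℂ) v = (μ : stabilizer G a → ℂ) 1) ∧
      (fun x => res a b (μ : stabilizer G a → ℂ) (sig hs x)) = res a b (μ : stabilizer G a → ℂ)}
  haveI : Fintype J := Fintype.ofFinite J
  have hJ : Nat.card J ≤ Nat.card (FixedCls hs) := by
    rw [← D.card_fixed_irr_eq hs]
    refine Nat.card_le_card_of_injective (fun μ => ⟨⟨_, D.res_irr μ.1.2 μ.2.1⟩, μ.2.2⟩) fun μ ν e => ?_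
    refine Subtype.ext (Subtype.ext (D.eq_of_res μ.1.2 ν.1.2 μ.2.1 ν.2.1 ?_))
    exact congrArg (fun z => ((z.1 : Cfsg.IrrCharacter (two (G := G) a b)) : two (G := G) a b → ℂ)) e
  have hsplit : ∀ μ : J, ∃ θ θ' : G → ℂ, Cfsg.IsIrrCharacter G θ ∧ Cfsg.IsIrrCharacter G θ' ∧
      θ ≠ θ' ∧ Cfsg.indFun (stabilizer G a) (μ.1 : stabilizer G a → ℂ) = θ + θ' := fun μ =>
    split_two (isCharacter_indFun _ (IsIrrCharacter.isCharacter μ.1.2))
      (by rw [D.norm_ind μ.1.2 μ.2.1 hs, if_pos μ.2.2])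
  choose θ₁ θ₂ hθ₁ hθ₂ hθne hθsum using hsplit
  obtain ⟨f, hf0, hf, hfS, hfJ⟩ := D.exists_fpf_function hs θ₁ hJ
  have hfH : ∀ u ∈ H, u ≠ 1 → f u = 0 := fun u hu _ => hfS u a (D.le hu)
  have hnon : ∀ θ : G → ℂ, Cfsg.IsIrrCharacter G θ → (∀ ξ ∈ T, Cfsg.classInner θ (w ξ) = 0) →
      Cfsg.classInner f θ = 0 := by
    intro θ hθ hθT
    have hθc := IsCharacter.isClassFunction (IsIrrCharacter.isCharacter hθ)
    obtain ⟨c, hc⟩ := D.const_of_orth hw hθc hθT
    obtain ⟨μ, hμ, hμH, hne⟩ := D.exists_under hθc (fun h0 => by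
      rw [D.sum_H_eq hc] at h0
      exact absurd (D.le_two_e_of_sum_zero hθ hc h0) (by omega))
    have hind := isCharacter_indFun (stabilizer G a) (IsIrrCharacter.isCharacter hμ)
    have hn := D.norm_ind hμ hμH hs
    have hfi := D.inner_fpf_ind hf hfS μ
    by_cases hfix : (fun x => res a b μ (sig hs x)) = res a b μ
    · let j : J := ⟨⟨μ, hμ⟩, hμH, hfix⟩
      have e : Cfsg.indFun (stabilizer G a) μ = θ₁ j + θ₂ j := hθsum j
      rw [e, classInner_add_right, hfJ j, zero_add] at hfi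
      rw [e, classInner_add_right] at hne
      by_cases h1 : θ = θ₁ j
      · rw [h1]; exact hfJ j
      by_cases h2 : θ = θ₂ j
      · rw [h2]; exact hfi
      rw [classInner_irr_of_ne hθ (hθ₁ j) h1, classInner_irr_of_ne hθ (hθ₂ j) h2, add_zero] at hne
      exact absurd rfl hne
    · rw [if_neg hfix] at hn
      have hirr := IsCharacter.isIrr_of_norm_one hind hn
      by_cases h1 : θ = Cfsg.indFun (stabilizer G a) μ
      · rw [h1]; exact hfi
      · exact absurd (classInner_irr_of_ne hθ hirr h1) hne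
  set c : (↥(Subgroup.normalizer (H : Set G)) → ℂ) → ℂ := fun ξ => Cfsg.classInner f (w ξ) with hcdef
  set g : G → ℂ := f - ∑ ξ ∈ T, c ξ • w ξ with hgdef
  have hwc : ∀ ξ ∈ T, Cfsg.IsClassFunction G (w ξ) := fun ξ hξ x y => by
    rcases hw.sign ξ hξ with h | h
    · exact IsCharacter.isClassFunction (IsIrrCharacter.isCharacter h) x y
    · exact neg_injective (IsCharacter.isClassFunction (IsIrrCharacter.isCharacter h) x y)
  have hg : Cfsg.IsClassFunction G g := fun x y => by
    simp only [hgdef, Pi.sub_apply, Finset.sum_apply, Pi.smul_apply, hf x y]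
    congr 1
    exact Finset.sum_congr rfl fun ξ hξ => by rw [hwc ξ hξ x y]
  have hgw : ∀ ξ ∈ T, Cfsg.classInner g (w ξ) = 0 := by
    intro ξ hξ
    rw [hgdef, classInner_sub_left, classInner_sum_left, Finset.sum_eq_single ξ, classInner_smul_left,
      hw.orth ξ hξ ξ hξ, if_pos rfl, mul_one, sub_self]
    · intro ζ hζ hne
      rw [classInner_smul_left, hw.orth ζ hζ ξ hξ, if_neg hne, mul_zero]
    · exact fun h => absurd hξ h
  have hg0 : g = 0 := by
    refine eq_zero_of_orthogonal hg fun θ hθ => ?_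
    by_cases h : ∀ ξ ∈ T, Cfsg.classInner θ (w ξ) = 0
    · rw [hgdef, classInner_sub_left, hnon θ hθ h, classInner_sum_left, Finset.sum_eq_zero fun ξ hξ => by
        rw [classInner_smul_left, ← classInner_conj_symm θ (w ξ), h ξ hξ, map_zero, mul_zero], sub_zero]
    · push Not at h
      obtain ⟨ξ, hξ, hne⟩ := h
      rcases hw.eq_or_neg hθ hξ hne with e | e
      · rw [← e]; exact hgw ξ hξ
      · rw [show θ = -w ξ by rw [e, neg_neg], classInner_neg_right, hgw ξ hξ, neg_zero]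
  rw [hgdef, sub_eq_zero] at hg0
  have hf1 : ∑ ξ ∈ T, c ξ * w ξ 1 = 0 := by
    have := congrFun hg0 1
    rw [hfS 1 a (one_smul _ _)] at this
    simpa [Finset.sum_apply] using this.symm
  have hdeg : ∀ ξ ∈ T, ∃ d : ℕ, 0 < d ∧ ξ 1 = d := fun ξ hξ =>
    IsIrrCharacter.exists_degree (D.exc_irr hw hξ).1
  refine hf0 (hg0.trans (Finset.sum_eq_zero fun ζ hζ => ?_))
  choose d hd0 hd using hdeg
  have hterm : ∀ ξ ∈ T, c ξ * w ξ 1 * ((d ζ hζ : ℂ) ^ 2) = c ζ * w ζ 1 * (ξ 1) ^ 2 := by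
    intro ξ hξ
    have h1 := D.inner_diff hw hf hfH hξ hζ
    have h2 := hw.degree hξ hζ
    rw [hd ξ hξ, hd ζ hζ, map_natCast, map_natCast] at h1
    rw [hd ξ hξ, hd ζ hζ] at h2
    rw [hd ξ hξ]
    simp only [hcdef]
    linear_combination (Cfsg.classInner f (w ξ)) * (d ζ hζ : ℂ) * h2 + (d ξ hξ : ℂ) * w ζ 1 * h1
  have hsum := Finset.sum_congr rfl hterm
  rw [← Finset.sum_mul, hf1, zero_mul, ← Finset.mul_sum] at hsum
  have hpos : ∑ ξ ∈ T, (ξ 1) ^ 2 ≠ 0 := by
    have e : ∑ ξ ∈ T, (ξ 1) ^ 2 = ((∑ ξ ∈ T.attach, (d ξ.1 ξ.2) ^ 2 : ℕ) : ℂ) := by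
      rw [← Finset.sum_attach, Nat.cast_sum]
      exact Finset.sum_congr rfl fun ξ _ => by rw [hd ξ.1 ξ.2]; push_cast; rfl
    rw [e, Nat.cast_ne_zero]
    exact (Finset.sum_pos (fun ξ _ => pow_pos (hd0 _ _) 2) ⟨⟨ζ, hζ⟩, Finset.mem_attach _ _⟩).ne'
  rcases mul_eq_zero.mp hsum.symm with h | h
  · rcases mul_eq_zero.mp h with h' | h'
    · rw [h', zero_smul]
    · exact absurd h' (hw.one_ne_zero hζ)
  · exact absurd h hpos

/-- Feit's inequality. -/
theorem feit (hbig : 2 * Nat.card (two (G := G) a b) < Nat.card H - 1) :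
    IsPGroup 2 H ∧ (∃ u v : H, u * v ≠ v * u) ∧
      (commutator H).index ≤ 4 * Nat.card (two (G := G) a b) ^ 2 + 1 := by
  obtain ⟨hcard, hindex⟩ := D.card_sub_index
  set K := H.subgroupOf (Subgroup.normalizer (H : Set G)) with hKdef
  have hF := D.frob_normalizer
  have he3 := D.three_le_e
  have hh := D.two_le_h
  have hK1 : K ≠ ⊥ := fun h => by rw [h, Subgroup.card_bot] at hcard; omega
  have hKtop : K ≠ ⊤ := fun h => by rw [h, Subgroup.index_top] at hindex; omega
  obtain ⟨hτ, hτ1⟩ := CohTI.isometry H D.tiSubset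
  rcases Feit.coherent_or_exception K hF hτ hτ1 hK1 hKtop (by rw [hcard, hindex]; omega) with
    h | ⟨p, hp, ⟨m, hm⟩, hnab, hq⟩
  · exact absurd h (D.not_coherent hbig)
  rcases hp.eq_two_or_odd' with rfl | hpo
  · refine ⟨IsPGroup.of_card (n := m) (hcard.symm.trans hm), ?_, ?_⟩
    · by_contra hc
      push Not at hc
      refine hnab fun x hx y hy => Subtype.ext ?_
      exact (congrArg (fun z : H => (z : G))
        (hc ⟨x, Subgroup.mem_subgroupOf.mp hx⟩ ⟨y, Subgroup.mem_subgroupOf.mp hy⟩) :)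
    · refine le_trans (le_of_eq ?_) (hindex ▸ hq)
      rw [← Feit.commutator_index K]
      let e := Subgroup.subgroupOfEquivOfLe (Subgroup.le_normalizer (H := H))
      rw [← Subgroup.index_map_equiv (commutator ↥K) e]
      rw [commutator_def, commutator_def, Subgroup.map_commutator,
        Subgroup.map_top_of_surjective (e : K →* H) e.surjective]
  · refine absurd (CohTI.coherent_TI H D.tiSubset ?_ D.H_ne_bot ?_ hF) (D.not_coherent hbig)
    · rw [← Subgroup.card_mul_index K, hm, hindex]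
      exact hpo.pow.mul D.odd
    · exact fun h => hKtop (Subgroup.subgroupOf_eq_top.mpr h)

end Data

end Cfsg.Agent.Zass
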