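import Cfsg.Prelude.Def_LieExceptional
import Cfsg.Prelude.Def_OddOrderLocal
import Cfsg.Agent.Lib.Char.TwoTrans
import Cfsg.Agent.Lib.Char.FrobeniusKernel
import Mathlib.GroupTheory.GroupAction.MultipleTransitivity

/-!
# Zassenhaus groups with a two-point stabiliser of odd order: basic facts
-/

set_option linter.style.haveILetI false
set_option linter.unusedSectionVars false

namespace Cfsg.Agent.Zass

open MulAction
open scoped Classical

universe u v

variable {G : Type u} [Group G] [Finite G] {Ω : Type v} [MulAction G Ω] [Fintype Ω]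

/-- The stabiliser of two points. -/
abbrev two (a b : Ω) : Subgroup G := stabilizer G a ⊓ stabilizer G b

theorem mem_two {a b : Ω} {x : G} : x ∈ two a b ↔ x • a = a ∧ x • b = b := by
  simp [Subgroup.mem_inf, mem_stabilizer_iff]

theorem move (hZ : Cfsg.IsZassenhausGroup G Ω) {p q r s : Ω} (h : p ≠ q) (h' : r ≠ s) :
    ∃ g : G, g • p = r ∧ g • q = s :=
  (is_two_pretransitive_iff.mp hZ.2.1) h h'

theorem three (hZ : Cfsg.IsZassenhausGroup G Ω) {g : G} {a b c : Ω} (hab : a ≠ b) (hbc : b ≠ c)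
    (hac : a ≠ c) (ha : g • a = a) (hb : g • b = b) (hc : g • c = c) : g = 1 :=
  hZ.2.2.1 g a b c hab hbc hac ha hb hc

/-- The stabiliser of `a` has order `(n - 1)` times that of a two-point stabiliser. -/
theorem card_stab_eq (hZ : Cfsg.IsZassenhausGroup G Ω) {a b : Ω} (hab : a ≠ b) :
    Nat.card (stabilizer G a) = (Fintype.card Ω - 1) * Nat.card (two (G := G) a b) := by
  have horb : Nat.card (orbit (stabilizer G a) b) = Fintype.card Ω - 1 := by
    have e : orbit (stabilizer G a) b = {c | c ≠ a} := by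
      ext c
      refine ⟨?_, fun hc => ?_⟩
      · rintro ⟨g, rfl⟩ h
        exact hab (((smul_left_cancel_iff (g : G)).mp (h.trans g.2.symm)).symm)
      · obtain ⟨g, g1, g2⟩ := move hZ hab (Ne.symm hc)
        exact ⟨⟨g, g1⟩, g2⟩
    rw [e, ← Finset.card_univ, ← Finset.card_erase_of_mem (Finset.mem_univ a)]
    exact Nat.subtype_card _ (by simp)
  have hst : Nat.card (stabilizer (stabilizer G a) b) = Nat.card (two (G := G) a b) :=
    Nat.card_congr
      { toFun := fun g => ⟨g.1.1, mem_two.mpr ⟨g.1.2, g.2⟩⟩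
        invFun := fun g => ⟨⟨g.1, (mem_two.mp g.2).1⟩, (mem_two.mp g.2).2⟩
        left_inv := fun _ => rfl
        right_inv := fun _ => rfl }
  rw [← horb, ← hst, ← Subgroup.index_mul_card (stabilizer (stabilizer G a) b), MulAction.index_stabilizer,
    Nat.card_coe_set_eq]

/-- The kernel of a point stabiliser. -/
theorem exists_kernel (hZ : Cfsg.IsZassenhausGroup G Ω) {a b : Ω} (hab : a ≠ b) :
    ∃ K : Subgroup G, K ≤ stabilizer G a ∧ Nat.card K + 1 = Fintype.card Ω ∧
      ∀ g ∈ stabilizer G a, g ∈ K ↔ (g = 1 ∨ ∀ c : Ω, g • c = c → c = a) := by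
  have hmal : Cfsg.Agent.Char.Malnormal ((two a b).subgroupOf (stabilizer G a)) := by
    intro g hg x hx hgx
    simp only [Subgroup.mem_subgroupOf, Subgroup.coe_mul, Subgroup.coe_inv, mem_two] at hg hx hgx
    have hga : (g : G) • a = a := g.2
    have hgb : (g : G) • b ≠ b := fun h => hg ⟨hga, h⟩
    have hga' : a ≠ (g : G) • b := fun h => hab ((smul_left_cancel_iff (g : G)).mp (hga.trans h))
    have h3 : ((g : G) * x * (g : G)⁻¹) • ((g : G) • b) = (g : G) • b := by
      rw [mul_smul, mul_smul, inv_smul_smul, hx.2]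
    have h1 := three hZ hab (Ne.symm hgb) hga' hgx.1 hgx.2 h3
    exact Subtype.ext (conj_eq_one_iff.mp h1)
  obtain ⟨K, -, -, hcompl, hmem⟩ := Cfsg.Agent.Char.exists_frobenius_kernel hmal
  refine ⟨K.map (stabilizer G a).subtype, Subgroup.map_subtype_le K, ?_, fun g hg => ?_⟩
  · have h1 := hcompl.card_mul
    have hE : Nat.card ((two a b).subgroupOf (stabilizer G a)) = Nat.card (two (G := G) a b) :=
      Nat.card_congr (Subgroup.subgroupOfEquivOfLe inf_le_left).toEquiv
    rw [hE, card_stab_eq hZ hab] at h1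
    have h2 := Nat.eq_of_mul_eq_mul_right Nat.card_pos h1
    rw [Subgroup.card_map_of_injective (stabilizer G a).subtype_injective, h2]
    have : 0 < Fintype.card Ω := Fintype.card_pos_iff.mpr ⟨a⟩
    omega
  · have hK : g ∈ K.map (stabilizer G a).subtype ↔ (⟨g, hg⟩ : stabilizer G a) ∈ K := by
      refine ⟨?_, fun h => ⟨_, h, rfl⟩⟩
      rintro ⟨k, hk, rfl⟩
      exact hk
    rw [hK, hmem]
    refine or_congr (Subtype.ext_iff) ⟨fun h c hc => ?_, fun h x hx => ?_⟩
    · by_contra hca
      obtain ⟨t, t1, t2⟩ := move hZ hab (Ne.symm hca : a ≠ c)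
      refine h ⟨t, t1⟩ ?_
      simp only [Subgroup.mem_subgroupOf, Subgroup.coe_mul, Subgroup.coe_inv, mem_two]
      exact ⟨by rw [mul_smul, mul_smul, t1, show g • a = a from hg, inv_smul_eq_iff, t1],
        by rw [mul_smul, mul_smul, t2, hc, inv_smul_eq_iff, t2]⟩
    · simp only [Subgroup.mem_subgroupOf, Subgroup.coe_mul, Subgroup.coe_inv, mem_two] at hx
      have hxb := hx.2
      rw [mul_smul, mul_smul, inv_smul_eq_iff] at hxb
      exact hab ((smul_left_cancel_iff (x : G)).mp ((h _ hxb).trans x.2.symm)).symm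

theorem exists_kernel' (hZ : Cfsg.IsZassenhausGroup G Ω) {a b : Ω} (hab : a ≠ b) :
    ∃ K : Subgroup G, K ≤ stabilizer G a ∧ Nat.card K + 1 = Fintype.card Ω ∧
      ∀ u ∈ K, u ≠ 1 → ∀ c : Ω, u • c = c → c = a := by
  obtain ⟨K, h1, h2, h3⟩ := exists_kernel hZ hab
  exact ⟨K, h1, h2, fun u hu hu1 => ((h3 u (h1 hu)).mp hu).resolve_left hu1⟩

/-- The data of the standard situation. -/
structure Data (a b : Ω) (H : Subgroup G) : Prop where
  zg : Cfsg.IsZassenhausGroup G Ω
  ne : a ≠ b
  le : H ≤ stabilizer G a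
  card : Nat.card H + 1 = Fintype.card Ω
  fixed : ∀ u ∈ H, u ≠ 1 → ∀ c : Ω, u • c = c → c = a
  odd : Odd (Nat.card (two (G := G) a b))

namespace Data

variable {a b : Ω} {H : Subgroup G} (D : Data a b H)
include D

theorem move_to {p q : Ω} (h : p ≠ q) : ∃ g : G, g • a = p ∧ g • b = q := move D.zg D.ne h

theorem mem_H {g : G} (hg : g ∈ stabilizer G a) (h : ∀ c : Ω, g • c = c → c = a) : g ∈ H := by
  obtain ⟨K, hK, hKc, hKm⟩ := exists_kernel D.zg D.ne
  have hle : H ≤ K := fun u hu => (hKm u (D.le hu)).mpr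
    ((eq_or_ne u 1).imp id fun h1 => D.fixed u hu h1)
  have hcard := D.card
  rw [Subgroup.eq_of_le_of_card_ge hle (by omega)]
  exact (hKm g hg).mpr (Or.inr h)

theorem exists_fixed {g : G} (hg : g ∈ stabilizer G a) (hH : g ∉ H) :
    ∃ c : Ω, c ≠ a ∧ g • c = c := by
  by_contra h
  push Not at h
  exact hH (D.mem_H hg fun c hc => by_contra fun hca => h c hca hc)

theorem centralizer_le {u : G} (hu : u ∈ H) (hu1 : u ≠ 1) :
    Subgroup.centralizer ({u} : Set G) ≤ H := by
  intro g hg
  have hc : g * u = u * g := Subgroup.mem_centralizer_singleton_iff.mp hg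
  have hua : u • a = a := D.le hu
  have hga : g • a = a := D.fixed u hu hu1 _ (by rw [← mul_smul, ← hc, mul_smul, hua])
  by_contra hgH
  obtain ⟨c, hca, hgc⟩ := D.exists_fixed hga hgH
  have huc : g • (u • c) = u • c := by rw [← mul_smul, hc, mul_smul, hgc]
  have hne1 : c ≠ u • c := fun h => hca (D.fixed u hu hu1 c h.symm)
  have hne2 : a ≠ u • c := fun h => hca ((smul_left_cancel_iff u).mp (hua.trans h)).symm
  exact hgH ((three D.zg (Ne.symm hca) hne1 hne2 hga hgc huc) ▸ H.one_mem)

theorem ne_bot_two : ∃ x ∈ two (G := G) a b, x ≠ 1 := by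
  obtain ⟨g, hg, p, q, hpq, hp, hq⟩ := D.zg.2.2.2.1
  obtain ⟨t, t1, t2⟩ := move D.zg hpq D.ne
  refine ⟨t * g * t⁻¹, mem_two.mpr ⟨?_, ?_⟩, fun h => hg (conj_eq_one_iff.mp h)⟩
  · rw [mul_smul, mul_smul, ← t1, inv_smul_smul, hp]
  · rw [mul_smul, mul_smul, ← t2, inv_smul_smul, hq]

theorem three_le_e : 3 ≤ Nat.card (two (G := G) a b) := by
  obtain ⟨x, hx, hx1⟩ := D.ne_bot_two
  have h1 : two (G := G) a b ≠ ⊥ := fun h => hx1 (Subgroup.mem_bot.mp (h ▸ hx))
  have h2 := (Subgroup.one_lt_card_iff_ne_bot _).mpr h1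
  obtain ⟨k, hk⟩ := D.odd
  omega

theorem two_le_h : 2 ≤ Nat.card H := by
  by_contra hh
  obtain ⟨x, hx, hx1⟩ := D.ne_bot_two
  refine hx1 (D.zg.1.eq_of_smul_eq_smul fun c => ?_)
  have hcard : Fintype.card Ω ≤ 2 := by have := D.card; omega
  have hc : c = a ∨ c = b := by
    by_contra hcon
    push Not at hcon
    have := Finset.card_le_univ ({c, a, b} : Finset Ω)
    rw [Finset.card_insert_of_notMem (by simp [hcon.1, hcon.2]), Finset.card_pair D.ne] at this
    omega
  rw [one_smul]
  rcases hc with rfl | rfl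
  exacts [(mem_two.mp hx).1, (mem_two.mp hx).2]

theorem H_ne_bot : H ≠ ⊥ := fun h => by
  have := D.two_le_h
  rw [h, Subgroup.card_bot] at this
  omega

theorem card_stab : Nat.card (stabilizer G a) = Nat.card H * Nat.card (two (G := G) a b) := by
  rw [card_stab_eq D.zg D.ne, ← D.card, Nat.add_sub_cancel]

theorem card_group : Nat.card G =
    (Nat.card H + 1) * (Nat.card H * Nat.card (two (G := G) a b)) := by
  haveI := D.zg.2.1
  haveI : MulAction.IsPretransitive G Ω :=
    MulAction.isPretransitive_of_is_two_pretransitive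
  rw [← D.card_stab, ← Subgroup.index_mul_card (stabilizer G a), MulAction.index_stabilizer,
    MulAction.orbit_eq_univ, Set.ncard_univ, D.card, Nat.card_eq_fintype_card]

theorem ti {g : G} (hg : g ∉ stabilizer G a) {u : G} (hu : u ∈ H) (hgu : g * u * g⁻¹ ∈ H) :
    u = 1 := by
  by_contra hu1
  refine hg (D.fixed _ hgu (fun h => hu1 (conj_eq_one_iff.mp h)) _ ?_)
  rw [mul_smul, mul_smul, inv_smul_smul, show u • a = a from D.le hu]

theorem conj_mem {g : G} (hg : g ∈ stabilizer G a) {u : G} (hu : u ∈ H) : g * u * g⁻¹ ∈ H := by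
  rcases eq_or_ne u 1 with rfl | hu1
  · simp
  refine D.mem_H (Subgroup.mul_mem _ (Subgroup.mul_mem _ hg (D.le hu)) (Subgroup.inv_mem _ hg))
    fun c hc => ?_
  rw [mul_smul, mul_smul, ← eq_inv_smul_iff] at hc
  have := D.fixed u hu hu1 _ hc
  rwa [inv_smul_eq_iff, show g • a = a from hg] at this

theorem normalizer_eq : Subgroup.normalizer (H : Set G) = stabilizer G a := by
  refine le_antisymm (fun g hg => ?_) fun g hg => ?_
  · by_contra hga
    obtain ⟨u, hu, hu1⟩ := (Subgroup.bot_or_exists_ne_one H).resolve_left D.H_ne_bot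
    exact hu1 (D.ti hga hu ((Subgroup.mem_normalizer_iff.mp hg u).mp hu))
  · rw [Subgroup.mem_normalizer_iff]
    refine fun u => ⟨D.conj_mem hg, fun h => ?_⟩
    simpa [mul_assoc] using D.conj_mem (Subgroup.inv_mem _ hg) h

theorem tiSubset : Cfsg.IsTISubset (H : Set G) := by
  intro g hg u hu hgu
  exact D.ti (fun h => hg (D.normalizer_eq.symm ▸ h)) hu hgu

theorem card_fixed_le {g : G} (hg : g ≠ 1) : (Finset.univ.filter fun c : Ω => g • c = c).card ≤ 2 := by
  by_contra h
  push Not at h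
  obtain ⟨p, hp, q, hq, r, hr, h1, h2, h3⟩ := Finset.two_lt_card.mp h
  simp only [Finset.mem_filter, Finset.mem_univ, true_and] at hp hq hr
  exact hg (three D.zg h1 h3 h2 hp hq hr)

theorem two_mul_card_fpf :
    2 * Nat.card {g : G // ∀ c : Ω, g • c ≠ c} + Nat.card H * (Nat.card H - 1) = Nat.card G := by
  haveI : Fintype G := Fintype.ofFinite G
  haveI := D.zg.2.1
  haveI : MulAction.IsPretransitive G Ω :=
    MulAction.isPretransitive_of_is_two_pretransitive
  set f : G → ℕ := fun g => Nat.card (MulAction.fixedBy Ω g) with hf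
  have hf' : ∀ g, f g = (Finset.univ.filter fun c : Ω => g • c = c).card := fun g =>
    Nat.subtype_card _ (by simp [MulAction.mem_fixedBy])
  have h1 : ∑ g : G, f g = Nat.card G := by
    rw [hf, Cfsg.Agent.Char.sum_natCard_fixedBy]
    haveI : Subsingleton (Quotient (MulAction.orbitRel G Ω)) :=
      (MulAction.pretransitive_iff_subsingleton_quotient G Ω).mp inferInstance
    haveI : Nonempty (Quotient (MulAction.orbitRel G Ω)) := ⟨Quotient.mk _ a⟩
    rw [Nat.card_unique, one_mul]
  have h2 : ∑ g : G, f g * f g = 2 * Nat.card G := by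
    rw [← (Cfsg.Agent.Char.card_orbits_eq_two (G := G) (fun p : Ω × Ω => p.1 = p.2)
        (fun g p => smul_left_cancel_iff g) (a := (a, a)) (b := (a, b)) rfl D.ne).mpr ?_,
      ← Cfsg.Agent.Char.sum_natCard_fixedBy (G := G) (Ω × Ω)]
    · refine Finset.sum_congr rfl fun g _ => ?_
      rw [hf, ← Nat.card_prod]
      exact Nat.card_congr
        { toFun := fun p => ⟨(p.1.1, p.2.1), Prod.ext p.1.2 p.2.2⟩
          invFun := fun p => (⟨p.1.1, congrArg Prod.fst p.2⟩, ⟨p.1.2, congrArg Prod.snd p.2⟩)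
          left_inv := fun _ => rfl
          right_inv := fun _ => rfl }
    · rintro ⟨p, q⟩ ⟨r, s⟩ hiff
      by_cases hpq : p = q
      · have hrs : r = s := hiff.mp hpq
        obtain ⟨g, hg⟩ := MulAction.exists_smul_eq G p r
        exact ⟨g, Prod.ext hg (hpq ▸ hrs ▸ hg)⟩
      · obtain ⟨g, g1, g2⟩ := move D.zg hpq (fun h => hpq (hiff.mpr h))
        exact ⟨g, Prod.ext g1 g2⟩
  have key : ∀ g : G, f g * f g + 2 = 3 * f g + (2 * (if ∀ c : Ω, g • c ≠ c then 1 else 0) +
      (if g = 1 then Nat.card H * (Nat.card H - 1) else 0)) := by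
    intro g
    by_cases hg : g = 1
    · subst hg
      have : f 1 = Nat.card H + 1 := by rw [hf', D.card]; simp
      rw [if_pos rfl, if_neg (fun h => h a (one_smul _ a)), this]
      have := D.two_le_h
      obtain ⟨k, hk⟩ := Nat.exists_eq_add_of_le (show 1 ≤ Nat.card H by omega)
      rw [hk, Nat.add_sub_cancel_left]
      ring
    · rw [if_neg hg]
      have hle : f g ≤ 2 := hf' g ▸ D.card_fixed_le hg
      have hiff : (∀ c : Ω, g • c ≠ c) ↔ f g = 0 := by
        rw [hf', Finset.card_eq_zero, Finset.filter_eq_empty_iff]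
        simp
      interval_cases hfg : f g <;> simp [hiff]
  have h3 := Finset.sum_congr (s₁ := (Finset.univ : Finset G)) rfl fun g _ => key g
  rw [Finset.sum_add_distrib, h2, Finset.sum_add_distrib, ← Finset.mul_sum, h1,
    Finset.sum_add_distrib, ← Finset.mul_sum, Finset.sum_ite_eq', if_pos (Finset.mem_univ _),
    Finset.sum_const, Finset.card_univ, smul_eq_mul, ← Nat.card_eq_fintype_card, Finset.sum_boole,
    Nat.cast_id, ← Fintype.card_subtype, ← Nat.card_eq_fintype_card] at h3
  linarith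

theorem e_dvd : Nat.card (two (G := G) a b) ∣ Nat.card H - 1 := by
  haveI : Fintype (two (G := G) a b) := Fintype.ofFinite _
  have h := Cfsg.Agent.Char.sum_natCard_fixedBy (G := two (G := G) a b) Ω
  have hval : ∀ g : two (G := G) a b, Nat.card (MulAction.fixedBy Ω g) =
      2 + if g = 1 then Nat.card H - 1 else 0 := by
    intro g
    rw [show Nat.card (MulAction.fixedBy Ω g) = (Finset.univ.filter fun c : Ω => (g : G) • c = c).card
      from Nat.subtype_card _ (by simp [MulAction.mem_fixedBy]; exact fun _ => Iff.rfl)]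
    by_cases hg : g = 1
    · subst hg
      rw [if_pos rfl, Finset.filter_true_of_mem fun c _ => by simp, Finset.card_univ, ← D.card]
      have := D.two_le_h
      omega
    · rw [if_neg hg, add_zero]
      refine le_antisymm (D.card_fixed_le fun h' => hg (Subtype.ext h')) ?_
      rw [← Finset.card_pair D.ne]
      refine Finset.card_le_card fun c hc => Finset.mem_filter.mpr ⟨Finset.mem_univ _, ?_⟩
      rcases Finset.mem_insert.mp hc with rfl | hc
      · exact (mem_two.mp g.2).1
      · rw [Finset.mem_singleton.mp hc]; exact (mem_two.mp g.2).2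
  rw [Finset.sum_congr rfl fun g _ => hval g, Finset.sum_add_distrib, Finset.sum_const,
    Finset.card_univ, smul_eq_mul, Finset.sum_ite_eq', if_pos (Finset.mem_univ _),
    ← Nat.card_eq_fintype_card] at h
  exact (Nat.dvd_add_right (dvd_mul_right _ _)).mp (h ▸ dvd_mul_left _ _)

end Data

end Cfsg.Agent.Zass
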