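import Cfsg.Agent.Lib.Zassenhaus.Setup
import Cfsg.Agent.Lib.Char.Fixed
import Mathlib.GroupTheory.Perm.Cycle.Type

/-!
# Involutions and fixed-point-free classes of Zassenhaus groups
-/

set_option linter.style.haveILetI false
set_option linter.unusedSectionVars false

namespace Cfsg.Agent.Zass

open MulAction
open scoped Classical

universe u v

variable {G : Type u} [Group G] [Finite G] {Ω : Type v} [MulAction G Ω] [Fintype Ω]

/-- An involution interchanging `a` and `b`. -/
structure Swap (a b : Ω) (s : G) : Prop where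
  sa : s • a = b
  sb : s • b = a
  sq : s * s = 1

theorem Swap.conj_mem {a b : Ω} {s : G} (hs : Swap a b s) {x : G} (hx : x ∈ two a b) :
    s * x * s ∈ two a b := by
  obtain ⟨hxa, hxb⟩ := mem_two.mp hx
  exact mem_two.mpr ⟨by rw [mul_smul, mul_smul, hs.sa, hxb, hs.sb],
    by rw [mul_smul, mul_smul, hs.sb, hxa, hs.sa]⟩

/-- Conjugation by a swapping involution on the two-point stabiliser. -/
def sig {a b : Ω} {s : G} (hs : Swap a b s) : two (G := G) a b →* two (G := G) a b where
  toFun x := ⟨s * x * s, hs.conj_mem x.2⟩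
  map_one' := Subtype.ext (by simp [hs.sq])
  map_mul' x y := Subtype.ext (by
    show s * (x * y : G) * s = s * x * s * (s * y * s)
    rw [show s * x * s * (s * y * s) = s * x * (s * s) * y * s by group, hs.sq]
    group)

theorem sig_sig {a b : Ω} {s : G} (hs : Swap a b s) (x : two (G := G) a b) :
    sig hs (sig hs x) = x := Subtype.ext (by
  show s * (s * x * s) * s = x
  rw [show s * (s * (x : G) * s) * s = s * s * x * (s * s) by group, hs.sq, one_mul, mul_one])

theorem orderOf_two_iff {t : G} : orderOf t = 2 ↔ t * t = 1 ∧ t ≠ 1 := by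
  haveI : Fact (Nat.Prime 2) := ⟨Nat.prime_two⟩
  rw [orderOf_eq_prime_iff, pow_two]

/-- The classes of the two-point stabiliser fixed by the swapping involution. -/
abbrev FixedCls {a b : Ω} {s : G} (hs : Swap a b s) : Type u :=
  {C : ConjClasses (two (G := G) a b) //
    ∀ x, ConjClasses.mk x = C → IsConj (sig hs x) x}

/-- The fixed-point-free classes. -/
abbrev FpfCls (G : Type u) [Group G] (Ω : Type v) [MulAction G Ω] : Type u :=
  {C : ConjClasses G // ∀ g, ConjClasses.mk g = C → ∀ c : Ω, g • c ≠ c}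

theorem fpf_conj {g g' : G} (hc : IsConj g g') (hg : ∀ c : Ω, g • c ≠ c) : ∀ c : Ω, g' • c ≠ c := by
  obtain ⟨y, rfl⟩ := isConj_iff.mp hc
  intro c hcc
  rw [mul_smul, mul_smul, ← eq_inv_smul_iff] at hcc
  exact hg _ hcc

theorem eq_of_sq_eq {M : Type*} [Group M] [Finite M] (hodd : Odd (Nat.card M)) (x : M) :
    ∃ n : ℕ, x = (x * x) ^ n ∧ ∀ y : M, y = (y * y) ^ n := by
  obtain ⟨k, hk⟩ := hodd
  refine ⟨k + 1, ?_, fun y => ?_⟩ <;>
    rw [← pow_two, ← pow_mul, show 2 * (k + 1) = Nat.card M + 1 by omega, pow_succ,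
      pow_card_eq_one', one_mul]

namespace Data

variable {a b : Ω} {H : Subgroup G} (D : Data a b H)
include D

theorem two_ti {x g : G} (hx : x ∈ two a b) (hx1 : x ≠ 1) (hgx : g * x * g⁻¹ ∈ two a b) :
    (g • a = a ∧ g • b = b) ∨ (g • a = b ∧ g • b = a) := by
  obtain ⟨hxa, hxb⟩ := mem_two.mp hx
  obtain ⟨hya, hyb⟩ := mem_two.mp hgx
  have hin : ∀ c, x • c = c → g • c = a ∨ g • c = b := by
    intro c hc
    by_contra hcon
    push Not at hcon
    refine hx1 (conj_eq_one_iff.mp (three D.zg D.ne (Ne.symm hcon.2) (Ne.symm hcon.1) hya hyb ?_))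
    rw [mul_smul, mul_smul, inv_smul_smul, hc]
  have hgab : g • a ≠ g • b := fun h => D.ne (MulAction.injective g h)
  rcases hin a hxa with e1 | e1 <;> rcases hin b hxb with e2 | e2
  · exact absurd (e1.trans e2.symm) hgab
  · exact Or.inl ⟨e1, e2⟩
  · exact Or.inr ⟨e1, e2⟩
  · exact absurd (e1.trans e2.symm) hgab

theorem fixed_pair {x : G} (hx : x ∈ two a b) (hx1 : x ≠ 1) {c : Ω} (hc : x • c = c) :
    c = a ∨ c = b := by
  by_contra h
  push Not at h
  exact hx1 (three D.zg D.ne (Ne.symm h.2) (Ne.symm h.1) (mem_two.mp hx).1 (mem_two.mp hx).2 hc)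

theorem exists_swap_of {z : G} (za : z • a = b) (zb : z • b = a) :
    ∃ t, Swap a b t ∧ ∀ x : G, Commute z x → Commute t x := by
  have hzz : z * z ∈ two a b := mem_two.mpr ⟨by rw [mul_smul, za, zb], by rw [mul_smul, zb, za]⟩
  obtain ⟨j, hj⟩ : Odd (orderOf (z * z)) :=
    Odd.of_dvd_nat D.odd (Subgroup.orderOf_dvd_natCard _ hzz)
  obtain ⟨hja, hjb⟩ := mem_two.mp (Subgroup.pow_mem _ hzz j)
  have hzk : z ^ orderOf (z * z) = z * (z * z) ^ j := by
    rw [hj, pow_succ', ← pow_two, ← pow_mul]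
  refine ⟨z ^ orderOf (z * z), ⟨?_, ?_, ?_⟩, fun x hx => hx.pow_left _⟩
  · rw [hzk, mul_smul, hja, za]
  · rw [hzk, mul_smul, hjb, zb]
  · rw [← (Commute.refl z).mul_pow]; exact pow_orderOf_eq_one _

theorem exists_swap : ∃ s : G, Swap a b s := by
  obtain ⟨z, z1, z2⟩ := move D.zg D.ne D.ne.symm
  obtain ⟨t, ht, -⟩ := D.exists_swap_of z1 z2
  exact ⟨t, ht⟩

theorem swap_of_inv {t : G} (ht : t * t = 1) (ha : t • a = b) : Swap a b t :=
  ⟨ha, by rw [← ha, ← mul_smul, ht, one_smul], ht⟩

theorem swap_ne_one {t : G} (ht : Swap a b t) : t ≠ 1 := fun h => by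
  have := ht.sa
  rw [h, one_smul] at this
  exact D.ne this

theorem inv_fixed {t : G} (ht : orderOf t = 2) :
    (Finset.univ.filter fun c : Ω => t • c = c).card = if Even (Nat.card H) then 1 else 0 := by
  obtain ⟨ht2, ht1⟩ := orderOf_two_iff.mp ht
  have hle := D.card_fixed_le ht1
  have hpar : 2 ∣ (Finset.univ.filter fun c : Ω => ¬ t • c = c).card := by
    have := Equiv.Perm.two_dvd_card_support (σ := (MulAction.toPerm t : Equiv.Perm Ω)) (by
      ext c
      simp [pow_two, ← mul_smul, ht2])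
    convert this using 2
    ext c
    simp [Equiv.Perm.mem_support]
  have hsplit := Finset.card_filter_add_card_filter_not
    (s := (Finset.univ : Finset Ω)) (fun c : Ω => t • c = c)
  rw [Finset.card_univ, ← D.card] at hsplit
  have hne2 : (Finset.univ.filter fun c : Ω => t • c = c).card ≠ 2 := by
    intro h
    obtain ⟨p, q, hpq, he⟩ := Finset.card_eq_two.mp h
    have hp : t • p = p := by simpa using (Finset.ext_iff.mp he p).mpr (by simp)
    have hq : t • q = q := by simpa using (Finset.ext_iff.mp he q).mpr (by simp)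
    obtain ⟨g, g1, g2⟩ := move D.zg hpq D.ne
    have hmem : g * t * g⁻¹ ∈ two a b := mem_two.mpr
      ⟨by rw [← g1, mul_smul, mul_smul, inv_smul_smul, hp],
        by rw [← g2, mul_smul, mul_smul, inv_smul_smul, hq]⟩
    have hdvd := Subgroup.orderOf_dvd_natCard _ hmem
    rw [show g * t * g⁻¹ = MulAut.conj g t from rfl, MulEquiv.orderOf_eq, ht] at hdvd
    exact (Nat.not_even_iff_odd.mpr D.odd) (even_iff_two_dvd.mpr hdvd)
  split_ifs with hev
  · obtain ⟨k, hk⟩ := hev
    omega
  · obtain ⟨k, hk⟩ := Nat.not_even_iff_odd.mp hev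
    omega

/-- The involutions that interchange `a` and `b` correspond to the inverted elements. -/
theorem card_swaps {s : G} (hs : Swap a b s) :
    Nat.card {t : G // orderOf t = 2 ∧ t • a = b} =
      Nat.card {x : two (G := G) a b // sig hs x = x⁻¹} := by
  refine Nat.card_congr
    { toFun := fun t => ⟨⟨s * t, ?_⟩, ?_⟩
      invFun := fun x => ⟨s * x.1, ?_, ?_⟩
      left_inv := fun t => Subtype.ext (by simp [← mul_assoc, hs.sq])
      right_inv := fun x => Subtype.ext (Subtype.ext (by simp [← mul_assoc, hs.sq])) }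
  · have ht := D.swap_of_inv (orderOf_two_iff.mp t.2.1).1 t.2.2
    exact mem_two.mpr ⟨by rw [mul_smul, ht.sa, hs.sb], by rw [mul_smul, ht.sb, hs.sa]⟩
  · refine Subtype.ext ?_
    show s * (s * (t : G)) * s = (s * (t : G))⁻¹
    rw [← mul_assoc s s, hs.sq, one_mul, mul_inv_rev]
    congr 1
    · exact eq_inv_of_mul_eq_one_left (orderOf_two_iff.mp t.2.1).1
    · exact eq_inv_of_mul_eq_one_left hs.sq
  · have h := congrArg Subtype.val x.2
    have h' : s * (x.1 : G) * s = ((x.1 : G))⁻¹ := h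
    refine orderOf_two_iff.mpr ⟨?_, fun h1 => ?_⟩
    · rw [← mul_assoc, h', inv_mul_cancel]
    · have := congrArg (fun g : G => g • a) h1
      simp only [mul_smul, (mem_two.mp x.1.2).1, hs.sa, one_smul] at this
      exact D.ne this.symm
  · rw [mul_smul, (mem_two.mp x.1.2).1, hs.sa]

theorem count_inv :
    Nat.card {t : G // orderOf t = 2} * (Nat.card H + 1 - if Even (Nat.card H) then 1 else 0) =
      (Nat.card H + 1) * Nat.card H * Nat.card {t : G // orderOf t = 2 ∧ t • a = b} := by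
  haveI : Fintype G := Fintype.ofFinite G
  set T : Finset G := Finset.univ.filter fun t => orderOf t = 2 with hT
  have hrow : ∀ t ∈ T, ∑ p : Ω, ∑ q ∈ Finset.univ.erase p, (if t • p = q then 1 else 0) =
      Nat.card H + 1 - if Even (Nat.card H) then 1 else 0 := by
    intro t ht
    simp only [Finset.sum_ite_eq, Finset.mem_erase, Finset.mem_univ, and_true, Finset.sum_boole,
      Nat.cast_id]
    have hsum := Finset.card_filter_add_card_filter_not
      (s := (Finset.univ : Finset Ω)) (fun c : Ω => t • c = c)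
    rw [Finset.card_univ] at hsum
    rw [← D.inv_fixed (Finset.mem_filter.mp ht).2, D.card]
    have hswap : (Finset.univ.filter fun c : Ω => t • c ≠ c).card =
        (Finset.univ.filter fun c : Ω => ¬ t • c = c).card := rfl
    omega
  have hcol : ∀ p : Ω, ∀ q ∈ Finset.univ.erase p, ∑ t ∈ T, (if t • p = q then 1 else 0) =
      Nat.card {t : G // orderOf t = 2 ∧ t • a = b} := by
    intro p q hq
    obtain ⟨g, g1, g2⟩ := D.move_to (Finset.ne_of_mem_erase hq).symm
    rw [Finset.sum_boole, Nat.cast_id, Finset.filter_filter, ← Fintype.card_subtype,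
      ← Nat.card_eq_fintype_card]
    refine (Nat.card_congr ((MulAut.conj g).toEquiv.subtypeEquiv fun t => ?_)).symm
    simp only [MulEquiv.toEquiv_eq_coe, EquivLike.coe_coe, MulEquiv.orderOf_eq]
    refine and_congr_right fun _ => ?_
    rw [MulAut.conj_apply, ← g1, ← g2, mul_smul, mul_smul, inv_smul_smul, smul_left_cancel_iff]
  have hcomm : ∑ t ∈ T, ∑ p : Ω, ∑ q ∈ Finset.univ.erase p, (if t • p = q then 1 else 0 : ℕ) =
      ∑ p : Ω, ∑ q ∈ Finset.univ.erase p, ∑ t ∈ T, (if t • p = q then 1 else 0 : ℕ) := by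
    rw [Finset.sum_comm]
    exact Finset.sum_congr rfl fun p _ => Finset.sum_comm
  rw [Finset.sum_congr rfl hrow, Finset.sum_congr rfl fun p _ => Finset.sum_congr rfl (hcol p),
    Finset.sum_const, smul_eq_mul] at hcomm
  rw [Nat.card_eq_fintype_card (α := {t : G // orderOf t = 2}), Fintype.card_subtype, hcomm]
  simp [Finset.card_erase_of_mem, ← D.card]
  ring

section Even

variable (hev : Even (Nat.card H))
include hev

theorem sig_eq_inv {s : G} (hs : Swap a b s) (y : two (G := G) a b) : sig hs y = y⁻¹ := by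
  have hfree : ∀ x : two (G := G) a b, sig hs x = x → x = 1 := by
    intro x hx
    by_contra hx1
    have hs2 : orderOf s = 2 := orderOf_two_iff.mpr ⟨hs.sq, D.swap_ne_one hs⟩
    have h1 := D.inv_fixed hs2
    rw [if_pos hev, Finset.card_eq_one] at h1
    obtain ⟨c, hc⟩ := h1
    have hmem : ∀ d : Ω, s • d = d ↔ d = c := fun d => by
      simpa using Finset.ext_iff.mp hc d
    have hx' : s * (x : G) * s = x := congrArg Subtype.val hx
    have hsc : s • c = c := (hmem c).mpr rfl
    have hxc : (x : G) • c = c := (hmem _).mp (by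
      conv_rhs => rw [← hx']
      rw [mul_smul, mul_smul, hsc])
    rcases D.fixed_pair x.2 (fun h => hx1 (Subtype.ext h)) hxc with rfl | rfl
    · exact D.ne (hsc.symm.trans hs.sa)
    · exact D.ne (hs.sb.symm.trans hsc)
  let φ : two (G := G) a b → two (G := G) a b := fun x => x⁻¹ * sig hs x
  have hinj : Function.Injective φ := fun x x' e => by
    have e' : x⁻¹ * sig hs x = x'⁻¹ * sig hs x' := e
    refine (mul_inv_eq_one.mp (hfree (x' * x⁻¹) ?_)).symm
    rw [map_mul, map_inv, show sig hs x' = x' * (x⁻¹ * sig hs x) by rw [e', mul_inv_cancel_left]]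
    group
  obtain ⟨x, rfl⟩ := Finite.injective_iff_surjective.mp hinj y
  show sig hs (x⁻¹ * sig hs x) = _
  rw [map_mul, map_inv, sig_sig, mul_inv_rev, inv_inv]

theorem card_swaps_even :
    Nat.card {t : G // orderOf t = 2 ∧ t • a = b} = Nat.card (two (G := G) a b) := by
  obtain ⟨s, hs⟩ := D.exists_swap
  rw [D.card_swaps hs]
  exact Nat.card_congr (Equiv.subtypeUnivEquiv (D.sig_eq_inv hev hs))

theorem card_inv_even :
    Nat.card {t : G // orderOf t = 2} = Nat.card (two (G := G) a b) * (Nat.card H + 1) := by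
  have h := D.count_inv
  rw [if_pos hev, Nat.add_sub_cancel, D.card_swaps_even hev] at h
  have := D.two_le_h
  exact Nat.eq_of_mul_eq_mul_right (by omega : 0 < Nat.card H) (h.trans (by ring))

theorem isConj_swap {s t : G} (hs : Swap a b s) (ht : orderOf t = 2) : IsConj t s := by
  obtain ⟨ht2, ht1⟩ := orderOf_two_iff.mp ht
  obtain ⟨p, hp⟩ : ∃ p : Ω, t • p ≠ p := by
    by_contra h
    push Not at h
    exact ht1 (D.zg.1.eq_of_smul_eq_smul fun c => by rw [h c, one_smul])
  obtain ⟨g, g1, g2⟩ := move D.zg (Ne.symm hp) D.ne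
  have ht' : Swap a b (g * t * g⁻¹) := D.swap_of_inv
    (by rw [show g * t * g⁻¹ * (g * t * g⁻¹) = g * (t * t) * g⁻¹ by group, ht2]; group)
    (by rw [← g1, mul_smul, mul_smul, inv_smul_smul, g2])
  refine (isConj_iff.mpr ⟨g, rfl⟩ : IsConj t (g * t * g⁻¹)).trans ?_
  have hx : s * (g * t * g⁻¹) ∈ two a b :=
    mem_two.mpr ⟨by rw [mul_smul, ht'.sa, hs.sb], by rw [mul_smul, ht'.sb, hs.sa]⟩
  obtain ⟨n, hn, -⟩ := eq_of_sq_eq D.odd (⟨_, hx⟩ : two (G := G) a b)
  set x : two (G := G) a b := ⟨_, hx⟩ with hxdef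
  have hy : ((x ^ n : two (G := G) a b) : G) * ((x ^ n : two (G := G) a b) : G) = x := by
    rw [← Subgroup.coe_mul, ← (Commute.refl x).mul_pow, ← hn]
  have h := congrArg Subtype.val (D.sig_eq_inv hev hs (x ^ n))
  have h' : s * ((x ^ n : two (G := G) a b) : G) * s = ((x ^ n : two (G := G) a b) : G)⁻¹ := h
  refine isConj_iff.mpr ⟨((x ^ n : two (G := G) a b) : G), ?_⟩
  have ht'' : g * t * g⁻¹ = s * x := by rw [hxdef, ← mul_assoc, hs.sq, one_mul]
  rw [ht'', ← hy]
  calc _ = ((x ^ n : two (G := G) a b) : G) * (s * ((x ^ n : two (G := G) a b) : G) * s) * s⁻¹ := by group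
    _ = s := by rw [h', mul_inv_cancel, one_mul, inv_eq_of_mul_eq_one_left hs.sq]

end Even

theorem fixed_exists_swap {s : G} (hs : Swap a b s) {x : two (G := G) a b}
    (hx : IsConj (sig hs x) x) : ∃ t : G, Swap a b t ∧ Commute t (x : G) := by
  obtain ⟨y, hy⟩ := isConj_iff.mp hx
  have hy' : (y : G) * (s * x * s) * (y : G)⁻¹ = x := congrArg Subtype.val hy
  obtain ⟨hya, hyb⟩ := mem_two.mp y.2
  obtain ⟨t, ht, htc⟩ := D.exists_swap_of (z := (y : G) * s)
    (by rw [mul_smul, hs.sa, hyb]) (by rw [mul_smul, hs.sb, hya])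
  refine ⟨t, ht, htc x ?_⟩
  have hsinv : s⁻¹ = s := inv_eq_of_mul_eq_one_left hs.sq
  show (y : G) * s * x = x * ((y : G) * s)
  calc (y : G) * s * x = (y : G) * (s * x * s) * (y : G)⁻¹ * ((y : G) * s⁻¹) := by group
    _ = x * ((y : G) * s) := by rw [hy', hsinv]

theorem sq_ne_one {x : two (G := G) a b} (hx : x ≠ 1) : x * x ≠ 1 := fun h => by
  obtain ⟨n, hn, -⟩ := eq_of_sq_eq D.odd x
  rw [h, one_pow] at hn
  exact hx hn

theorem mul_fpf {t : G} (ht : Swap a b t) {x : two (G := G) a b} (hx : x ≠ 1) (hc : Commute t x) :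
    (∀ c : Ω, (t * x) • c ≠ c) ∧ t * x * (t * x) = ((x * x : two (G := G) a b) : G) := by
  have hsq : t * x * (t * x) = ((x * x : two (G := G) a b) : G) := by
    rw [Subgroup.coe_mul, hc.eq]
    calc (x : G) * t * (x * t) = x * (t * x) * t := by group
      _ = x * (x * t) * t := by rw [hc.eq]
      _ = x * x * (t * t) := by group
      _ = x * x := by rw [ht.sq, mul_one]
  refine ⟨fun c hcc => ?_, hsq⟩
  have h2 : ((x * x : two (G := G) a b) : G) • c = c := by rw [← hsq, mul_smul, hcc, hcc]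
  rcases D.fixed_pair (x * x).2 (fun h => D.sq_ne_one hx (Subtype.ext h)) h2 with rfl | rfl
  · rw [mul_smul, (mem_two.mp x.2).1, ht.sa] at hcc; exact D.ne hcc.symm
  · rw [mul_smul, (mem_two.mp x.2).2, ht.sb] at hcc; exact D.ne hcc

theorem card_centralizer_swap {t : G} (ht : Swap a b t) {x : two (G := G) a b} (hx : x ≠ 1)
    (hc : Commute t x) : ∃ d, d ∣ Nat.card (two (G := G) a b) ∧
      Nat.card (Subgroup.centralizer ({t * (x : G)} : Set G)) = 2 * d := by
  obtain ⟨-, hsq⟩ := D.mul_fpf ht hx hc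
  set C := Subgroup.centralizer ({t * (x : G)} : Set G) with hC
  have hti : ∀ g ∈ C, (g • a = a ∧ g • b = b) ∨ (g • a = b ∧ g • b = a) := by
    intro g hg
    refine D.two_ti (x * x).2 (fun h => D.sq_ne_one hx (Subtype.ext h)) ?_
    have hg' : g * (t * x) = t * x * g := Subgroup.mem_centralizer_singleton_iff.mp hg
    have : g * ((x * x : two (G := G) a b) : G) * g⁻¹ = ((x * x : two (G := G) a b) : G) := by
      rw [← hsq, ← mul_assoc g, hg', mul_assoc (t * x) g, hg', ← mul_assoc (t * x),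
        mul_inv_cancel_right]
    rw [this]
    exact (x * x).2
  have htx : t * (x : G) ∈ C := Subgroup.mem_centralizer_singleton_iff.mpr rfl
  have horb : Nat.card (orbit C a) = 2 := by
    have e : orbit C a = {a, b} := by
      ext c
      refine ⟨?_, ?_⟩
      · rintro ⟨g, rfl⟩
        rcases hti g g.2 with ⟨h, -⟩ | ⟨h, -⟩
        · exact Or.inl h
        · exact Or.inr h
      · rintro (rfl | rfl)
        · exact MulAction.mem_orbit_self _
        · exact ⟨⟨_, htx⟩, show (t * (x : G)) • a = c by rw [mul_smul, (mem_two.mp x.2).1, ht.sa]⟩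
    rw [e, Nat.card_coe_set_eq, Set.ncard_pair D.ne]
  refine ⟨Nat.card (stabilizer C a), ?_, ?_⟩
  · refine Subgroup.card_dvd_of_injective (MonoidHom.codRestrict
      (C.subtype.comp (stabilizer C a).subtype) (two a b) fun g => ?_) fun g g' e => ?_
    · rcases hti g.1 g.1.2 with h | ⟨h, -⟩
      · exact mem_two.mpr h
      · exact absurd ((show (g.1 : G) • a = a from g.2).symm.trans h) D.ne
    · exact Subtype.ext (Subtype.ext (congrArg (fun z : two (G := G) a b => (z : G)) e :))
  · rw [← horb, ← Subgroup.index_mul_card (stabilizer C a), MulAction.index_stabilizer,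
      Nat.card_coe_set_eq]

theorem conj_of_sq_conj {s : G} (hs : Swap a b s) {x x' : two (G := G) a b} (hx : x ≠ 1)
    (hf : IsConj (sig hs x) x) (h : IsConj ((x * x : two (G := G) a b) : G) ((x' * x' : two (G := G) a b) : G)) :
    IsConj x x' := by
  obtain ⟨g, hg⟩ := isConj_iff.mp h
  obtain ⟨n, -, hn⟩ := eq_of_sq_eq D.odd x
  have hroot : IsConj (x * x) (x' * x') → IsConj x x' := by
    intro hc
    obtain ⟨y, hy⟩ := isConj_iff.mp hc
    refine isConj_iff.mpr ⟨y, ?_⟩
    rw [hn x, ← conj_pow, hy, ← hn x']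
  rcases D.two_ti (x * x).2 (fun e => D.sq_ne_one hx (Subtype.ext e)) (hg ▸ (x' * x').2) with ⟨ga, gb⟩ | ⟨ga, gb⟩
  · exact hroot (isConj_iff.mpr ⟨⟨g, mem_two.mpr ⟨ga, gb⟩⟩, Subtype.ext hg⟩)
  · have hgs : g * s ∈ two a b :=
      mem_two.mpr ⟨by rw [mul_smul, hs.sa, gb], by rw [mul_smul, hs.sb, ga]⟩
    have hc : IsConj (sig hs (x * x)) (x' * x') := isConj_iff.mpr ⟨⟨g * s, hgs⟩, Subtype.ext (by
      show g * s * (s * ((x * x : two (G := G) a b) : G) * s) * (g * s)⁻¹ = _
      rw [← hg, show g * s * (s * ((x * x : two (G := G) a b) : G) * s) * (g * s)⁻¹ =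
        g * (s * s) * ((x * x : two (G := G) a b) : G) * g⁻¹ by group, hs.sq, mul_one])⟩
    have hf2 : IsConj (sig hs (x * x)) (x * x) := by
      obtain ⟨y, hy⟩ := isConj_iff.mp hf
      exact isConj_iff.mpr ⟨y, by rw [map_mul, ← conj_mul, hy]⟩
    exact hroot (hf2.symm.trans hc)

theorem two_le_fpf_of_even (hev : Even (Nat.card H)) : 2 ≤ Nat.card (FpfCls G Ω) := by
  haveI : Fintype G := Fintype.ofFinite G
  haveI : Finite (ConjClasses G) := Finite.of_surjective ConjClasses.mk ConjClasses.mk_surjective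
  by_contra hlt
  haveI : Subsingleton (FpfCls G Ω) := Finite.card_le_one_iff_subsingleton.mp (by omega)
  have hF := D.two_mul_card_fpf
  have hG := D.card_group
  have h3 := D.three_le_e
  have hh := D.two_le_h
  set F := Nat.card {g : G // ∀ c : Ω, g • c ≠ c} with hFdef
  set h := Nat.card H with hh'
  set e := Nat.card (two (G := G) a b) with he'
  have hmul : h ≤ h * e := Nat.le_mul_of_pos_right _ (by omega)
  rcases Nat.eq_zero_or_pos F with h0 | h0
  · have h4 : h * (h - 1) ≤ (h + 1) * h := by nlinarith [Nat.sub_le h 1]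
    have h5 : (h + 1) * h * 2 ≤ (h + 1) * (h * e) := by
      rw [← mul_assoc]; exact Nat.mul_le_mul_left _ (by omega)
    have h6 : 0 < (h + 1) * h := by positivity
    omega
  · obtain ⟨g₀, hg₀⟩ := (Nat.card_pos_iff.mp h0).1
    have hclass : {g : G | ∀ c : Ω, g • c ≠ c} = ↑(Cfsg.Agent.Char.classFinset g₀) := by
      ext g
      simp only [Cfsg.Agent.Char.classFinset, Finset.coe_filter, Finset.mem_univ, true_and]
      refine ⟨fun hg => ConjClasses.mk_eq_mk_iff_isConj.mp ?_, fun hg => fpf_conj hg hg₀⟩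
      exact congrArg Subtype.val (Subsingleton.elim
        (⟨ConjClasses.mk g₀, fun k hk => fpf_conj (ConjClasses.mk_eq_mk_iff_isConj.mp hk.symm) hg₀⟩ : FpfCls G Ω)
        ⟨ConjClasses.mk g, fun k hk => fpf_conj (ConjClasses.mk_eq_mk_iff_isConj.mp hk.symm) hg⟩)
    have hFi : F = (Subgroup.centralizer ({g₀} : Set G)).index := by
      rw [← Cfsg.Agent.Char.card_classFinset g₀, ← Set.ncard_coe_finset, ← hclass,
        ← Nat.card_coe_set_eq]
      rfl
    have hc := Subgroup.index_mul_card (Subgroup.centralizer ({g₀} : Set G))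
    rw [← hFi, hG] at hc
    set c := Nat.card (Subgroup.centralizer ({g₀} : Set G))
    obtain ⟨k, hk⟩ := Nat.exists_eq_add_of_le (show 1 ≤ h by omega)
    have hA : c * ((h + 1) * e - k) = (h + 1) * (2 * e) := by
      have hsub : k ≤ (h + 1) * e := by nlinarith
      obtain ⟨A, hA'⟩ := Nat.exists_eq_add_of_le hsub
      have hk' : h - 1 = k := by omega
      rw [hk', hG] at hF
      have h2F : 2 * F = h * A := by nlinarith
      rw [hA', Nat.add_sub_cancel_left]
      exact Nat.eq_of_mul_eq_mul_left (by omega : 0 < h) (by nlinarith)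
    have hcop : Nat.Coprime (h + 1) ((h + 1) * e - k) := by
      refine Nat.coprime_of_dvd fun p hp h1 h2 => ?_
      have hsub : k ≤ (h + 1) * e := by nlinarith
      obtain ⟨A, hA'⟩ := Nat.exists_eq_add_of_le hsub
      rw [hA', Nat.add_sub_cancel_left] at h2
      have hpk : p ∣ k := (Nat.dvd_add_left h2).mp (hA' ▸ h1.mul_right e)
      have hp2 : p ∣ 2 := by
        rw [show h + 1 = k + 2 by omega] at h1
        exact (Nat.dvd_add_right hpk).mp h1
      obtain rfl : p = 2 := (Nat.prime_dvd_prime_iff_eq hp Nat.prime_two).mp hp2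
      have := hev
      rw [Nat.even_iff] at this
      omega
    obtain ⟨m, hm⟩ := hcop.dvd_of_dvd_mul_right (Dvd.intro (2 * e) hA.symm)
    rw [hm, mul_assoc] at hA
    have hA2 := Nat.eq_of_mul_eq_mul_left (by omega : 0 < h + 1) hA
    have hm0 : 0 < m := Nat.pos_of_ne_zero fun h' => by rw [h', zero_mul] at hA2; omega
    have hbig : (h + 1) * e - k ≤ 2 * e := hA2 ▸ Nat.le_mul_of_pos_left _ hm0
    have hh1 : h * e + e = (h + 1) * e := by ring
    have hhe : k * 3 ≤ k * e := Nat.mul_le_mul_left _ h3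
    have hh2 : h * e = k * e + e := by rw [hk]; ring
    omega

end Data

end Cfsg.Agent.Zass
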