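/-
Normal subgroups of Zassenhaus groups; simplicity in odd degree.
-/
import Cfsg.Agent.Lib.Zassenhaus.Classes
import Cfsg.Agent.Lib.Solvable.Frobenius

set_option autoImplicit false
set_option linter.style.haveILetI false

namespace Cfsg.Agent.ZassNormal

open MulAction Cfsg.Agent.Zass

universe u v

variable {G : Type u} [Group G] {Ω : Type v} [MulAction G Ω]

theorem finite_of_faithful [FaithfulSMul G Ω] [Finite Ω] : Finite G :=
  Finite.of_injective (fun g : G => fun z : Ω => g • z)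
    fun _ _ e => FaithfulSMul.eq_of_smul_eq_smul fun z : Ω => congrFun e z

/-- A nontrivial normal subgroup of a doubly transitive group is transitive. -/
theorem trans_normal [FaithfulSMul G Ω]
    (hmove : ∀ {p q r s : Ω}, p ≠ q → r ≠ s → ∃ g : G, g • p = r ∧ g • q = s)
    (N : Subgroup G) [N.Normal] (hN : N ≠ ⊥) (p q : Ω) : ∃ n ∈ N, n • p = q := by
  rcases eq_or_ne p q with rfl | hpq
  · exact ⟨1, N.one_mem, one_smul _ _⟩
  obtain ⟨n, hn, hn1⟩ := (Subgroup.bot_or_exists_ne_one N).resolve_left hN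
  obtain ⟨p0, hp0⟩ : ∃ p0 : Ω, n • p0 ≠ p0 := by
    by_contra! h
    exact hn1 (FaithfulSMul.eq_of_smul_eq_smul (α := Ω) fun z => by rw [one_smul, h z])
  obtain ⟨g, g1, g2⟩ := hmove (Ne.symm hp0) hpq
  refine ⟨g * n * g⁻¹, ‹N.Normal›.conj_mem n hn g, ?_⟩
  rw [mul_smul, mul_smul, ← g1, inv_smul_smul, g2]

/-- A regular subgroup normalised by a doubly transitive group is abelian. -/
theorem regular_abelian [Finite Ω] [FaithfulSMul G Ω]
    (hmove : ∀ {p q r s : Ω}, p ≠ q → r ≠ s → ∃ g : G, g • p = r ∧ g • q = s)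
    (M : Subgroup G) [M.Normal] {a : Ω} (hfree : ∀ m ∈ M, m • a = a → m = 1) :
    ∀ x ∈ M, ∀ y ∈ M, x * y = y * x := by
  classical
  haveI := finite_of_faithful (G := G) (Ω := Ω)
  have hinj : ∀ x ∈ M, ∀ y ∈ M, x • a = y • a → x = y := fun x hx y hy e =>
    (inv_mul_eq_one.1 (hfree (y⁻¹ * x) (M.mul_mem (M.inv_mem hy) hx)
      (by rw [mul_smul, e, inv_smul_smul]))).symm
  have hconj : ∀ x ∈ M, ∀ y ∈ M, x ≠ 1 → y ≠ 1 → ∃ g : G, g * x * g⁻¹ = y := by
    intro x hx y hy hx1 hy1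
    obtain ⟨g, g1, g2⟩ := hmove (p := a) (q := x • a) (r := a) (s := y • a)
      (fun e => hx1 (hfree x hx e.symm)) (fun e => hy1 (hfree y hy e.symm))
    refine ⟨g, hinj _ (‹M.Normal›.conj_mem x hx g) y hy ?_⟩
    rw [mul_smul, mul_smul, inv_smul_eq_iff.2 g1.symm, g2]
  rcases eq_or_ne M ⊥ with hM | hM
  · intro x hx y hy
    rw [hM, Subgroup.mem_bot] at hx hy
    rw [hx, hy]
  obtain ⟨r, hr, hdvd⟩ := Nat.exists_prime_and_dvd
    (fun h => hM (Subgroup.card_eq_one.1 h) : Nat.card M ≠ 1)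
  haveI := Fact.mk hr
  obtain ⟨x0, hx0⟩ := exists_prime_orderOf_dvd_card' (G := M) r hdvd
  have hx01 : (x0 : G) ≠ 1 := fun e => by
    rw [show x0 = 1 from Subtype.ext e, orderOf_one] at hx0
    exact hr.ne_one hx0.symm
  have hMp : IsPGroup r M := fun y => by
    rcases eq_or_ne y 1 with rfl | hy
    · exact ⟨0, one_pow _⟩
    obtain ⟨g, hg⟩ := hconj x0 x0.2 y y.2 hx01 (fun e => hy (Subtype.ext e))
    refine ⟨1, Subtype.ext ?_⟩
    rw [pow_one, Subgroup.coe_pow, ← hg, conj_pow, ← Subgroup.coe_pow, ← hx0, pow_orderOf_eq_one]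
    simp
  haveI : Nontrivial M := (Subgroup.nontrivial_iff_ne_bot _).2 hM
  haveI := hMp.center_nontrivial
  obtain ⟨z, hz⟩ := exists_ne (1 : Subgroup.center M)
  intro x hx y hy
  rcases eq_or_ne x 1 with rfl | hx1
  · rw [one_mul, mul_one]
  obtain ⟨g, rfl⟩ := hconj (z : M) (z : M).2 x hx
    (fun e => hz (Subtype.ext (Subtype.ext e))) hx1
  have hc := congrArg Subtype.val (Subgroup.mem_center_iff.1 z.2
    ⟨g⁻¹ * y * g, by simpa using ‹M.Normal›.conj_mem y hy g⁻¹⟩)
  have hc' : g⁻¹ * y * g * ((z : M) : G) = ((z : M) : G) * (g⁻¹ * y * g) := hc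
  calc g * ((z : M) : G) * g⁻¹ * y = g * (((z : M) : G) * (g⁻¹ * y * g)) * g⁻¹ := by group
    _ = y * (g * ((z : M) : G) * g⁻¹) := by rw [← hc']; group

/-- Regular normal subgroups of a doubly transitive normal subgroup are normal in the whole group. -/
theorem normal_of_regular [Finite Ω] [FaithfulSMul G Ω] (N : Subgroup G) [N.Normal]
    (hN2 : ∀ {p q r s : Ω}, p ≠ q → r ≠ s → ∃ g : N, g • p = r ∧ g • q = s)
    (M : Subgroup N) [M.Normal] (hMt : MulAction.IsPretransitive M Ω)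
    (hMr : ∀ p : Ω, MulAction.stabilizer M p = ⊥) : (M.map N.subtype).Normal := by
  classical
  refine ⟨fun x hx g => ?_⟩
  obtain ⟨m0, hm0, rfl⟩ := Subgroup.mem_map.1 hx
  rcases isEmpty_or_nonempty Ω with hΩ | ⟨⟨a⟩⟩
  · have e : (m0 : G) = 1 := FaithfulSMul.eq_of_smul_eq_smul (α := Ω) fun z => (hΩ.false z).elim
    show g * (m0 : G) * g⁻¹ ∈ _
    rw [e, mul_one, mul_inv_cancel]
    exact one_mem _
  let c : MulAut N := MulAut.conjNormal g
  set M' : Subgroup N := M.map c.toMonoidHom with hM'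
  haveI : M'.Normal := Subgroup.Normal.map inferInstance _ c.surjective
  haveI : FaithfulSMul N Ω := ⟨fun {x y} h => Subtype.ext (FaithfulSMul.eq_of_smul_eq_smul (α := Ω) h)⟩
  haveI := finite_of_faithful (G := N) (Ω := Ω)
  have hfree : ∀ p : Ω, ∀ m ∈ M, m • p = p → m = 1 := fun p m hm e => by
    have : (⟨m, hm⟩ : M) ∈ MulAction.stabilizer M p := e
    rw [hMr p, Subgroup.mem_bot] at this
    exact congrArg Subtype.val this
  have hfree' : ∀ p : Ω, ∀ m ∈ M', m • p = p → m = 1 := by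
    rintro p _ ⟨m, hm, rfl⟩ e
    have e' : (g * (m : G) * g⁻¹) • p = p := by
      rw [← MulAut.conjNormal_apply]; exact e
    rw [mul_smul, mul_smul, ← eq_inv_smul_iff] at e'
    rw [hfree _ m hm e', map_one]
  suffices hle : M' ≤ M by
    exact Subgroup.mem_map.2 ⟨c m0, hle ⟨m0, hm0, rfl⟩, MulAut.conjNormal_apply g m0⟩
  by_cases hX : M ⊓ M' = ⊥
  · intro m' hm'
    have hab := regular_abelian (G := N) (fun h h' => hN2 h h') M (hfree a)
    have hcomm : ∀ u ∈ M, u * m' = m' * u := fun u hu => by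
      have h1 : u * m' * u⁻¹ * m'⁻¹ ∈ M ⊓ M' := Subgroup.mem_inf.2
        ⟨by rw [mul_assoc, mul_assoc, ← mul_assoc m']; exact M.mul_mem hu (‹M.Normal›.conj_mem _ (M.inv_mem hu) m'),
          M'.mul_mem (‹M'.Normal›.conj_mem m' hm' u) (M'.inv_mem hm')⟩
      rw [hX, Subgroup.mem_bot, mul_inv_eq_one] at h1
      exact mul_inv_eq_iff_eq_mul.1 h1
    obtain ⟨m, hm⟩ := hMt.exists_smul_eq a (m' • a)
    have e : m' = (m : N) := FaithfulSMul.eq_of_smul_eq_smul (α := Ω) fun z => by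
      obtain ⟨u, rfl⟩ := hMt.exists_smul_eq a z
      show m' • ((u : N) • a) = (m : N) • ((u : N) • a)
      rw [← mul_smul, ← hcomm u u.2, mul_smul, ← hm]
      show (u : N) • ((m : N) • a) = _
      rw [← mul_smul, ← mul_smul, hab u u.2 m m.2]
    exact e ▸ m.2
  · intro m' hm'
    obtain ⟨x, hx, hxa⟩ := trans_normal (G := N) (fun h h' => hN2 h h') (M ⊓ M') hX a (m' • a)
    obtain ⟨hxM, hxM'⟩ := Subgroup.mem_inf.1 hx
    have e := hfree' a (x⁻¹ * m') (M'.mul_mem (M'.inv_mem hxM') hm')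
      (by rw [mul_smul, ← hxa, inv_smul_smul])
    rw [← inv_mul_eq_one.1 e]
    exact hxM

/-- A nontrivial normal subgroup contains the kernels and is a Zassenhaus group. -/
theorem normal_zassenhaus [Fintype Ω] (hZ : Cfsg.IsZassenhausGroup G Ω) (N : Subgroup G) [N.Normal]
    (hN : N ≠ ⊥) :
    Cfsg.IsZassenhausGroup N Ω ∧ ∀ (a : Ω) (K : Subgroup G), K ≤ stabilizer G a →
      (∀ u ∈ K, u ≠ 1 → ∀ c : Ω, u • c = c → c = a) → K ≤ N := by
  classical
  haveI := hZ.1
  haveI := finite_of_faithful (G := G) (Ω := Ω)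
  haveI : FaithfulSMul N Ω := ⟨fun {x y} h => Subtype.ext (FaithfulSMul.eq_of_smul_eq_smul (α := Ω) h)⟩
  have hmove : ∀ {p q r s : Ω}, p ≠ q → r ≠ s → ∃ g : G, g • p = r ∧ g • q = s :=
    fun h h' => move hZ h h'
  have htr : ∀ p q : Ω, ∃ n ∈ N, n • p = q := trans_normal hmove N hN
  have hNt : MulAction.IsPretransitive N Ω :=
    ⟨fun p q => by obtain ⟨n, hn, e⟩ := htr p q; exact ⟨⟨n, hn⟩, e⟩⟩
  obtain ⟨a0, ha0⟩ := hZ.2.2.2.2 N inferInstance hNt
  obtain ⟨x0, hx0, a1, b1, hab1, hxa1, hxb1⟩ :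
      ∃ x : N, x ≠ 1 ∧ ∃ p q : Ω, p ≠ q ∧ x • p = p ∧ x • q = q := by
    by_contra! hno
    set S0 := MulAction.stabilizer N a0
    have hmal : Cfsg.Agent.Char.Malnormal S0 := by
      intro g hg x hx hgx
      by_contra hx1
      refine hno x hx1 a0 (g⁻¹ • a0) (fun e => hg ?_) hx ?_
      · show g • a0 = a0
        conv_lhs => rw [e]
        rw [smul_inv_smul]
      · have e' : (g * x * g⁻¹) • a0 = a0 := hgx
        rwa [mul_smul, mul_smul, ← eq_inv_smul_iff] at e'
    obtain ⟨M, hMn, -, hMc, hMm⟩ := Cfsg.Agent.Char.exists_frobenius_kernel hmal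
    have hMfix : ∀ m : N, m ∈ M ↔ (m = 1 ∨ ∀ p : Ω, m • p ≠ p) := fun m => by
      rw [hMm]
      refine or_congr_right ⟨fun h p hp => ?_, fun h y hy => ?_⟩
      · obtain ⟨y, hy⟩ := hNt.exists_smul_eq a0 p
        refine h y ?_
        show (y⁻¹ * m * y) • a0 = a0
        rw [mul_smul, mul_smul, hy, hp, ← hy, inv_smul_smul]
      · have hy' : (y⁻¹ * m * y) • a0 = a0 := hy
        rw [mul_smul, mul_smul, inv_smul_eq_iff] at hy'
        exact h _ hy'
    haveI : (M.map N.subtype).Normal := ⟨fun x hx g => by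
      obtain ⟨m, hm, rfl⟩ := Subgroup.mem_map.1 hx
      refine Subgroup.mem_map.2 ⟨MulAut.conjNormal g m, ?_, MulAut.conjNormal_apply g m⟩
      rw [hMfix] at hm ⊢
      refine hm.imp (fun e => by rw [e, map_one]) fun h p hp => ?_
      have hp' : (g * (m : G) * g⁻¹) • p = p := by rw [← MulAut.conjNormal_apply]; exact hp
      rw [mul_smul, mul_smul, ← eq_inv_smul_iff] at hp'
      exact h _ hp'⟩
    have hMt : MulAction.IsPretransitive (M.map N.subtype) Ω := by
      have key : ∀ p : Ω, ∃ x : M.map N.subtype, x • a0 = p := by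
        intro p
        obtain ⟨y, hy⟩ := hNt.exists_smul_eq a0 p
        haveI := hMn
        have hy' : y ∈ M ⊔ S0 := hMc.sup_eq_top ▸ Subgroup.mem_top y
        obtain ⟨m, hm, s, hs, e⟩ := Subgroup.mem_sup_of_normal_left.1 hy'
        refine ⟨⟨(m : G), Subgroup.mem_map.2 ⟨m, hm, rfl⟩⟩, ?_⟩
        show m • a0 = p
        rw [← hy, ← e, mul_smul, show s • a0 = a0 from hs]
      refine ⟨fun p q => ?_⟩
      obtain ⟨x, hx⟩ := key p
      obtain ⟨y, hy⟩ := key q
      exact ⟨y * x⁻¹, by rw [mul_smul, ← hx, inv_smul_smul, hy]⟩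
    obtain ⟨p, hp⟩ := hZ.2.2.2.2 _ inferInstance hMt
    refine hp (eq_bot_iff.2 fun x hx => Subgroup.mem_bot.2 ?_)
    obtain ⟨m, hm, hmx⟩ := Subgroup.mem_map.1 x.2
    have hmp : m • p = p := by
      show (m : G) • p = p
      rw [show (m : G) = (x : G) from hmx]; exact hx
    rcases (hMfix m).1 hm with rfl | h
    · exact Subtype.ext (by rw [← hmx]; rfl)
    · exact absurd hmp (h p)
  have hKN : ∀ (a : Ω) (K : Subgroup G), K ≤ stabilizer G a →
      (∀ u ∈ K, u ≠ 1 → ∀ c : Ω, u • c = c → c = a) → K ≤ N := by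
    intro a K hKa hKf
    obtain ⟨b, hb⟩ : ∃ b : Ω, b ≠ a := by
      rcases eq_or_ne a1 a with rfl | h
      exacts [⟨b1, hab1.symm⟩, ⟨a1, h⟩]
    obtain ⟨K0, hK0a, hK0c, hK0m⟩ := exists_kernel hZ (a := a) (b := b) (Ne.symm hb)
    have hKK0 : K ≤ K0 := fun u hu => (hK0m u (hKa hu)).mpr
      ((eq_or_ne u 1).imp id fun h1 => hKf u hu h1)
    refine hKK0.trans ?_
    obtain ⟨g, g1, g2⟩ := hmove hab1 (Ne.symm hb)
    set x := g * (x0 : G) * g⁻¹ with hx
    have hxN : x ∈ N := ‹N.Normal›.conj_mem _ x0.2 g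
    have hx1 : x ≠ 1 := fun e => hx0 (Subtype.ext (conj_eq_one_iff.1 e))
    have hxa : x • a = a := by
      rw [hx, ← g1, mul_smul, mul_smul, inv_smul_smul]
      exact congrArg _ hxa1
    have hxb : x • b = b := by
      rw [hx, ← g2, mul_smul, mul_smul, inv_smul_smul]
      exact congrArg _ hxb1
    have hfixK : ∀ u ∈ K0, u ≠ 1 → ∀ c : Ω, u • c = c → c = a := fun u hu hu1 =>
      ((hK0m u (hK0a hu)).1 hu).resolve_left hu1
    have hKconj : ∀ u ∈ K0, x * u * x⁻¹ ∈ K0 := by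
      intro u hu
      have hs : x * u * x⁻¹ ∈ stabilizer G a :=
        mul_mem (mul_mem hxa (hK0a hu)) (inv_mem (show x ∈ stabilizer G a from hxa))
      refine (hK0m _ hs).2 ?_
      rcases eq_or_ne u 1 with rfl | hu1
      · exact Or.inl (by group)
      · refine Or.inr fun c hc => ?_
        rw [mul_smul, mul_smul, ← eq_inv_smul_iff] at hc
        have := hfixK u hu hu1 _ hc
        rwa [inv_smul_eq_iff, hxa] at this
    let f : K0 → K0 := fun u => ⟨(u : G) * (x * (u : G)⁻¹ * x⁻¹),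
      K0.mul_mem u.2 (hKconj _ (K0.inv_mem u.2))⟩
    have hfinj : Function.Injective f := by
      intro u w e
      have e' : (u : G) * (x * (u : G)⁻¹ * x⁻¹) = (w : G) * (x * (w : G)⁻¹ * x⁻¹) :=
        congrArg Subtype.val e
      set v := (w : G)⁻¹ * u with hv
      have hcomm : v * x = x * v := by
        calc v * x = (w : G)⁻¹ * ((u : G) * (x * (u : G)⁻¹ * x⁻¹)) * (x * u) := by rw [hv]; group
          _ = x * v := by rw [e', hv]; group
      by_contra hne
      have hv1 : v ≠ 1 := fun h => hne (Subtype.ext (inv_mul_eq_one.1 h).symm)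
      have hvK : v ∈ K0 := K0.mul_mem (K0.inv_mem w.2) u.2
      have hvb : x • (v • b) = v • b := by rw [← mul_smul, ← hcomm, mul_smul, hxb]
      refine hx1 (three hZ (Ne.symm hb) (fun h => hb (hfixK v hvK hv1 b h.symm)) ?_ hxa hxb hvb)
      intro h
      exact hb ((smul_left_cancel_iff v).1 (h.symm.trans (hK0a hvK).symm))
    intro k hk
    obtain ⟨u, hu⟩ := (Finite.injective_iff_surjective.1 hfinj) ⟨k, hk⟩
    rw [show k = (u : G) * (x * (u : G)⁻¹ * x⁻¹) from (congrArg Subtype.val hu).symm]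
    have := N.mul_mem (‹N.Normal›.conj_mem x hxN u) (N.inv_mem hxN)
    simpa [mul_assoc] using this
  -- double transitivity
  have h2 : ∀ {p q r s : Ω}, p ≠ q → r ≠ s → ∃ g : N, g • p = r ∧ g • q = s := by
    intro p q r s hpq hrs
    obtain ⟨n, hn, hnp⟩ := htr p r
    obtain ⟨K0, hK0a, hK0c, hK0m⟩ := exists_kernel hZ (a := r) (b := s) hrs
    have hK0f : ∀ u ∈ K0, u ≠ 1 → ∀ c : Ω, u • c = c → c = r := fun u hu hu1 =>
      ((hK0m u (hK0a hu)).1 hu).resolve_left hu1
    have hnq : n • q ≠ r := fun e => hpq ((smul_left_cancel_iff n).1 (hnp.trans e.symm))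
    let f : K0 → {z : Ω // z ≠ r} := fun u => ⟨(u : G) • (n • q), fun e => hnq
      ((smul_left_cancel_iff (u : G)).1 (e.trans (hK0a u.2).symm))⟩
    have hf : Function.Injective f := by
      intro u w e
      have e' : (u : G) • (n • q) = (w : G) • (n • q) := congrArg Subtype.val e
      by_contra hne
      refine hnq (hK0f ((w : G)⁻¹ * u) (K0.mul_mem (K0.inv_mem w.2) u.2)
        (fun h => hne (Subtype.ext (inv_mul_eq_one.1 h).symm)) (n • q) ?_)
      rw [mul_smul, e', inv_smul_smul]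
    have hcard : Nat.card K0 = Nat.card {z : Ω // z ≠ r} := by
      rw [Nat.card_eq_fintype_card (α := {z : Ω // z ≠ r}), Fintype.card_subtype_compl,
        Fintype.card_subtype_eq]
      omega
    obtain ⟨u, hu⟩ := ((Nat.bijective_iff_injective_and_card f).2 ⟨hf, hcard⟩).2 ⟨s, hrs.symm⟩
    refine ⟨⟨(u : G) * n, N.mul_mem (hKN r K0 hK0a hK0f u.2) hn⟩, ?_, ?_⟩
    · show ((u : G) * n) • p = r
      rw [mul_smul, hnp]; exact hK0a u.2
    · show ((u : G) * n) • q = s
      rw [mul_smul]; exact congrArg Subtype.val hu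
  refine ⟨⟨inferInstance, is_two_pretransitive_iff.mpr (fun h h' => h2 h h'),
    fun g p q r h1 h2' h3 hp hq hr => Subtype.ext (three hZ h1 h2' h3 hp hq hr),
    ⟨x0, hx0, a1, b1, hab1, hxa1, hxb1⟩, ?_⟩, hKN⟩
  intro M hM hMt
  by_contra! hall
  haveI := hM
  haveI := normal_of_regular N h2 M hMt hall
  have hMt' : MulAction.IsPretransitive (M.map N.subtype) Ω := ⟨fun p q => by
    obtain ⟨m, hm⟩ := hMt.exists_smul_eq p q
    exact ⟨⟨((m : N) : G), Subgroup.mem_map.2 ⟨m, m.2, rfl⟩⟩, hm⟩⟩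
  obtain ⟨p, hp⟩ := hZ.2.2.2.2 _ inferInstance hMt'
  refine hp (eq_bot_iff.2 fun x hx => Subgroup.mem_bot.2 ?_)
  obtain ⟨m, hm, hmx⟩ := Subgroup.mem_map.1 x.2
  have hmp : (⟨m, hm⟩ : M) ∈ MulAction.stabilizer M p := by
    show (m : G) • p = p
    rw [show (m : G) = (x : G) from hmx]; exact hx
  rw [hall p, Subgroup.mem_bot] at hmp
  exact Subtype.ext (hmx.symm.trans (congrArg (fun z : M => ((z : N) : G)) hmp))

/-- A Zassenhaus group of odd degree is simple. -/
theorem simple_of_odd [Fintype Ω] (hZ : Cfsg.IsZassenhausGroup G Ω) (hodd : Odd (Fintype.card Ω)) :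
    IsSimpleGroup G := by
  classical
  haveI := hZ.1
  haveI := finite_of_faithful (G := G) (Ω := Ω)
  obtain ⟨g0, hg0, a, b, hab, -, -⟩ := hZ.2.2.2.1
  haveI : Nontrivial G := ⟨⟨g0, 1, hg0⟩⟩
  obtain ⟨K, hKa, hKc, hKm⟩ := exists_kernel hZ hab
  have hKf : ∀ u ∈ K, u ≠ 1 → ∀ c : Ω, u • c = c → c = a := fun u hu hu1 =>
    ((hKm u (hKa hu)).1 hu).resolve_left hu1
  have hev : Even (Nat.card K) := by
    obtain ⟨j, hj⟩ := hodd
    exact ⟨j, by omega⟩
  -- the two-point stabiliser has odd order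
  have hconj : ∀ g ∈ stabilizer G a, ∀ u ∈ K, g * u * g⁻¹ ∈ K := by
    intro g hg u hu
    refine (hKm _ (mul_mem (mul_mem hg (hKa hu)) (inv_mem hg))).2 ?_
    rcases eq_or_ne u 1 with rfl | hu1
    · exact Or.inl (by group)
    · refine Or.inr fun c hc => ?_
      rw [mul_smul, mul_smul, ← eq_inv_smul_iff] at hc
      have := hKf u hu hu1 _ hc
      rwa [inv_smul_eq_iff, show g • a = a from hg] at this
  have hEodd : Odd (Nat.card (two (G := G) a b)) := by
    have hn : two (G := G) a b ≤ Subgroup.normalizer (K : Set G) := by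
      intro x hx
      rw [Subgroup.mem_normalizer_iff]
      refine fun u => ⟨hconj x (Subgroup.mem_inf.1 hx).1 u, fun h => ?_⟩
      have := hconj x⁻¹ (inv_mem (Subgroup.mem_inf.1 hx).1) _ h
      simpa [mul_assoc] using this
    have hfpf : ∀ x ∈ two (G := G) a b, x ≠ 1 → K ⊓ Subgroup.centralizer {x} = ⊥ := by
      intro x hx hx1
      refine eq_bot_iff.2 fun v hv => ?_
      obtain ⟨hvK, hvc⟩ := Subgroup.mem_inf.1 hv
      rw [Subgroup.mem_bot]
      by_contra hv1
      obtain ⟨hxa, hxb⟩ := mem_two.1 hx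
      have hcv : v * x = x * v := Subgroup.mem_centralizer_singleton_iff.1 hvc
      have hvb : x • (v • b) = v • b := by rw [← mul_smul, ← hcv, mul_smul, hxb]
      refine hx1 (three hZ hab (fun h => hab.symm (hKf v hvK hv1 b h.symm)) ?_ hxa hxb hvb)
      intro h
      exact hab.symm ((smul_left_cancel_iff v).1 (h.symm.trans (hKa hvK).symm))
    have hcop := Cfsg.Agent.FrobeniusStruct.coprime_of_fpf hn hfpf
    rw [← Nat.not_even_iff_odd]
    intro he
    have := Nat.dvd_gcd hev.two_dvd he.two_dvd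
    rw [hcop.gcd_eq_one] at this
    omega
  have D : Data a b K := ⟨hZ, hab, hKa, by omega, hKf, hEodd⟩
  refine ⟨fun N hN => or_iff_not_imp_left.2 fun hN1 => ?_⟩
  haveI := hN
  obtain ⟨hZN, hKN⟩ := normal_zassenhaus hZ N hN1
  have hKleN : K ≤ N := hKN a K hKa hKf
  let K' : Subgroup N := K.subgroupOf N
  have hK'c : Nat.card K' = Nat.card K := Nat.card_congr (Subgroup.subgroupOfEquivOfLe hKleN).toEquiv
  have hE' : Nat.card (two (G := N) a b) ∣ Nat.card (two (G := G) a b) :=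
    Subgroup.card_dvd_of_injective ((N.subtype.comp (two (G := N) a b).subtype).codRestrict
      (two (G := G) a b) fun x => mem_two.2 (mem_two.1 x.2))
      fun x y e => Subtype.ext (Subtype.ext (congrArg (fun z : two (G := G) a b => (z : G)) e :))
  have D' : Data a b K' := ⟨hZN, hab, fun u hu => hKa (Subgroup.mem_subgroupOf.1 hu), by omega,
    fun u hu hu1 => hKf u (Subgroup.mem_subgroupOf.1 hu) (fun e => hu1 (Subtype.ext e)),
    hEodd.of_dvd_nat hE'⟩
  -- every involution lies in `N`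
  have hinvN : ∀ t : G, orderOf t = 2 → t ∈ N := by
    intro t ht
    haveI : Fact (Nat.Prime 2) := ⟨Nat.prime_two⟩
    obtain ⟨u, hu⟩ := exists_prime_orderOf_dvd_card' (G := K) 2 hev.two_dvd
    obtain ⟨s, hs⟩ := D.exists_swap
    have h1 := (D.isConj_swap hev hs ((Subgroup.orderOf_coe u).trans hu)).trans (D.isConj_swap hev hs ht).symm
    obtain ⟨g, hg⟩ := isConj_iff.1 h1
    rw [← hg]
    exact hN.conj_mem _ (hKleN u.2) g
  have hcount : Nat.card {t : N // orderOf t = 2} = Nat.card {t : G // orderOf t = 2} :=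
    Nat.card_congr
      { toFun := fun t => ⟨t.1, (Subgroup.orderOf_coe t.1).trans t.2⟩
        invFun := fun t => ⟨⟨t.1, hinvN t.1 t.2⟩, (Subgroup.orderOf_coe _).symm.trans t.2⟩
        left_inv := fun _ => rfl
        right_inv := fun _ => rfl }
  rw [D'.card_inv_even (hK'c ▸ hev), D.card_inv_even hev, hK'c] at hcount
  have hee := Nat.eq_of_mul_eq_mul_right (by omega) hcount
  refine Subgroup.eq_top_of_card_eq _ ?_
  rw [D'.card_group, D.card_group, hK'c, hee]

end Cfsg.Agent.ZassNormal
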