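import Cfsg.Agent.Lib.Zassenhaus.Feit
import Mathlib.GroupTheory.Nilpotent

/-!
# Involutions of a Zassenhaus group with `2 e < h - 1`
-/

set_option linter.style.haveILetI false
set_option linter.unusedSectionVars false

namespace Cfsg.Agent.Zass

open MulAction
open scoped Classical

universe u v

variable {G : Type u} [Group G] [Fintype G] {Ω : Type v} [MulAction G Ω] [Fintype Ω]

namespace Data

variable {a b : Ω} {H : Subgroup G} (D : Data a b H)
  (hbig : 2 * Nat.card (two (G := G) a b) < Nat.card H - 1)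
include D hbig

theorem even_of_big : Even (Nat.card H) := by
  haveI : Fact (Nat.Prime 2) := ⟨Nat.prime_two⟩
  obtain ⟨k, hk⟩ := IsPGroup.iff_card.mp (D.feit hbig).1
  have := D.two_le_h
  rw [hk] at this ⊢
  exact Even.pow_of_ne_zero even_two fun h => by simp [h] at this

theorem invert_fix {u : G} (hu : u ∈ H) (hu1 : u ≠ 1) {x : G} (hx : orderOf x = 2)
    (hinv : x * u * x = u⁻¹) : x ∈ H := by
  obtain ⟨hx2, hx1⟩ := orderOf_two_iff.mp hx
  have hua : u • a = a := D.le hu
  have hxa : x • a = a := by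
    refine D.fixed u⁻¹ (H.inv_mem hu) (inv_ne_one.mpr hu1) _ ?_
    rw [← hinv, mul_smul, mul_smul, ← mul_smul x x a, hx2, one_smul, hua]
  refine D.mem_H hxa fun c hc => ?_
  have h1 := D.inv_fixed hx
  rw [if_pos (D.even_of_big hbig), Finset.card_eq_one] at h1
  obtain ⟨d, hd⟩ := h1
  have hmem : ∀ z : Ω, x • z = z → z = d := fun z hz => by
    simpa using (Finset.ext_iff.mp hd z).mp (by simp [hz])
  rw [hmem c hc, hmem a hxa]

theorem invert_mul {x y : G} (hx : orderOf x = 2) (hy : orderOf y = 2) :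
    x * (x * y) * x = (x * y)⁻¹ ∧ y * (x * y) * y = (x * y)⁻¹ := by
  obtain ⟨hx2, -⟩ := orderOf_two_iff.mp hx
  obtain ⟨hy2, -⟩ := orderOf_two_iff.mp hy
  rw [mul_inv_rev, inv_eq_of_mul_eq_one_left hx2, inv_eq_of_mul_eq_one_left hy2]
  exact ⟨by rw [← mul_assoc x x y, hx2, one_mul], by rw [mul_assoc y (x * y) y, mul_assoc x y y, hy2, mul_one]⟩

/-- Two involutions of `H` commute. -/
theorem comm_inv {x : G} (hxH : x ∈ H) (hx : orderOf x = 2) {v : G} (hv : v ∈ H) :
    x * v = v * x := by
  haveI : Fact (Nat.Prime 2) := ⟨Nat.prime_two⟩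
  have hp := (D.feit hbig).1
  haveI : Nontrivial H := (Subgroup.nontrivial_iff_ne_bot H).mpr D.H_ne_bot
  haveI := hp.center_nontrivial
  obtain ⟨k, hk⟩ := IsPGroup.iff_card.mp (hp.to_subgroup (Subgroup.center H))
  have hk0 : k ≠ 0 := fun h => by
    have := Finite.one_lt_card (α := Subgroup.center H)
    rw [hk, h, pow_zero] at this
    omega
  obtain ⟨z, hz⟩ := exists_prime_orderOf_dvd_card' (G := Subgroup.center H) 2 (hk ▸ dvd_pow_self 2 hk0)
  have hz' : orderOf (((z : H)) : G) = 2 := by rw [Subgroup.orderOf_coe, Subgroup.orderOf_coe, hz]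
  obtain ⟨s, hs⟩ := D.exists_swap
  have hev := D.even_of_big hbig
  obtain ⟨g, hg⟩ := isConj_iff.mp ((D.isConj_swap hev hs hx).trans (D.isConj_swap hev hs hz').symm)
  have hga : g ∈ stabilizer G a := by
    by_contra h
    exact (orderOf_two_iff.mp hx).2 (D.ti h hxH (hg ▸ (z : H).2))
  have hc := congrArg (fun w : H => (w : G))
    (Subgroup.mem_center_iff.mp z.2 ⟨g * v * g⁻¹, D.conj_mem hga hv⟩)
  simp only [Subgroup.coe_mul] at hc
  rw [← hg] at hc
  simp only [mul_assoc, inv_mul_cancel_left] at hc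
  have hc' := mul_left_cancel hc
  simp only [← mul_assoc] at hc'
  exact (mul_right_cancel hc').symm

theorem kernel_real {u x y : G} (hu : u ∈ H) (hu1 : u ≠ 1) (hx : orderOf x = 2) (hy : orderOf y = 2)
    (hxy : x * y = u) : orderOf u = 2 := by
  subst hxy
  obtain ⟨h1, h2⟩ := D.invert_mul hbig hx hy
  have hxH := D.invert_fix hbig hu hu1 hx h1
  have hyH := D.invert_fix hbig hu hu1 hy h2
  refine orderOf_two_iff.mpr ⟨?_, hu1⟩
  rw [mul_assoc x y (x * y), ← mul_assoc y x y, ← D.comm_inv hbig hxH hx hyH, mul_assoc x y y,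
    (orderOf_two_iff.mp hy).1, mul_one, (orderOf_two_iff.mp hx).1]

theorem card_inv_fixing (c : Ω) :
    (Finset.univ.filter fun t : G => orderOf t = 2 ∧ t • c = c).card =
      Nat.card (two (G := G) a b) := by
  haveI := D.zg.2.1
  haveI : MulAction.IsPretransitive G Ω :=
    MulAction.isPretransitive_of_is_two_pretransitive
  set T : Finset G := Finset.univ.filter fun t => orderOf t = 2 with hT
  have heq : ∀ p : Ω, (T.filter fun t => t • p = p).card = (T.filter fun t => t • c = c).card := by
    intro p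
    obtain ⟨g, hg⟩ := MulAction.exists_smul_eq G p c
    refine Finset.card_equiv (MulAut.conj g).toEquiv fun t => ?_
    simp only [hT, Finset.mem_filter, Finset.mem_univ, true_and, MulEquiv.toEquiv_eq_coe,
      EquivLike.coe_coe, MulEquiv.orderOf_eq]
    refine and_congr_right fun _ => ?_
    rw [MulAut.conj_apply, ← hg, mul_smul, mul_smul, inv_smul_smul, smul_left_cancel_iff]
  have hrow : ∀ t ∈ T, ∑ p : Ω, (if t • p = p then 1 else 0) = 1 := by
    intro t ht
    rw [Finset.sum_boole, Nat.cast_id, D.inv_fixed (Finset.mem_filter.mp ht).2,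
      if_pos (D.even_of_big hbig)]
  have hswap : ∑ p : Ω, (T.filter fun t => t • p = p).card = T.card := by
    rw [Finset.card_eq_sum_ones T, ← Finset.sum_congr rfl hrow, Finset.sum_comm]
    exact Finset.sum_congr rfl fun p _ => by rw [Finset.sum_boole, Nat.cast_id]
  rw [Finset.sum_congr rfl fun p _ => heq p, Finset.sum_const, Finset.card_univ, smul_eq_mul,
    ← D.card] at hswap
  have hI : T.card = (Nat.card H + 1) * Nat.card (two (G := G) a b) := by
    rw [mul_comm, ← D.card_inv_even (D.even_of_big hbig), Nat.card_eq_fintype_card, Fintype.card_subtype]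
  rw [hI, hT, Finset.filter_filter] at hswap
  exact Nat.eq_of_mul_eq_mul_left (Nat.succ_pos _) hswap

/-- At least `e` classes avoid `H`. -/
theorem card_avoid :
    Nat.card (two (G := G) a b) ≤
      Nat.card {C : ConjClasses G // ∀ g : G, ConjClasses.mk g = C → g ∉ H} := by
  haveI : Finite (ConjClasses G) := Finite.of_surjective ConjClasses.mk ConjClasses.mk_surjective
  haveI : Fintype (ConjClasses G) := Fintype.ofFinite _
  set e := Nat.card (two (G := G) a b) with he
  set T : Finset G := Finset.univ.filter fun t => orderOf t = 2 with hT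
  set P : Finset (G × G) := (T ×ˢ T).filter fun p => ∀ c : Ω, p.1 • c = c → p.2 • c ≠ c with hP
  set X : Finset G := Finset.univ.filter fun g => ∀ k, IsConj g k → k ∉ H with hX
  have hev := D.even_of_big hbig
  have hI : T.card = (Nat.card H + 1) * e := by
    rw [he, mul_comm, ← D.card_inv_even hev, Nat.card_eq_fintype_card, Fintype.card_subtype]
  have hPcard : P.card = T.card * (Nat.card H * e) := by
    rw [Finset.card_eq_sum_card_fiberwise (f := Prod.fst) (t := T)
      (fun p hp => (Finset.mem_product.mp (Finset.mem_filter.mp hp).1).1), Finset.sum_const_nat]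
    intro t ht
    have h1 := D.inv_fixed (Finset.mem_filter.mp ht).2
    rw [if_pos hev, Finset.card_eq_one] at h1
    obtain ⟨c, hc⟩ := h1
    have hmem : ∀ z : Ω, t • z = z ↔ z = c := fun z => by simpa using Finset.ext_iff.mp hc z
    have hfib : (P.filter fun p => p.1 = t).card = (T.filter fun t' => ¬ t' • c = c).card := by
      refine (Finset.card_bij (fun t' _ => (t, t')) (fun t' ht' => ?_) (fun _ _ _ _ h => (Prod.ext_iff.mp h).2)
        fun p hp => ?_).symm
      · simp only [hP, Finset.mem_filter, Finset.mem_product]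
        refine ⟨⟨⟨ht, (Finset.mem_filter.mp ht').1⟩, fun z hz => ?_⟩, trivial⟩
        rw [(hmem z).mp hz]
        exact (Finset.mem_filter.mp ht').2
      · simp only [hP, Finset.mem_filter, Finset.mem_product] at hp
        obtain ⟨⟨⟨-, h2⟩, h3⟩, h4⟩ := hp
        exact ⟨p.2, Finset.mem_filter.mpr ⟨h2, h3 c (h4 ▸ (hmem c).mpr rfl)⟩, Prod.ext h4.symm rfl⟩
    rw [hfib]
    have h2 := Finset.card_filter_add_card_filter_not (s := T) (fun t' : G => t' • c = c)
    rw [hT, Finset.filter_filter, D.card_inv_fixing hbig c, ← hT, hI, ← he] at h2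
    have h3 : (Nat.card H + 1) * e = Nat.card H * e + e := by ring
    omega
  have hmaps : ∀ p ∈ P, p.1 * p.2 ∈ X := by
    intro p hp
    simp only [hP, hT, Finset.mem_filter, Finset.mem_product, Finset.mem_univ, true_and] at hp
    obtain ⟨⟨h1, h2⟩, h3⟩ := hp
    refine Finset.mem_filter.mpr ⟨Finset.mem_univ _, fun k hk hkH => ?_⟩
    obtain ⟨y, rfl⟩ := isConj_iff.mp hk
    by_cases hk1 : y * (p.1 * p.2) * y⁻¹ = 1
    · have hq : p.1 = p.2 := by
        have := eq_inv_of_mul_eq_one_left (conj_eq_one_iff.mp hk1)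
        rwa [inv_eq_of_mul_eq_one_left (orderOf_two_iff.mp h2).1] at this
      have h4 := D.inv_fixed h1
      rw [if_pos hev, Finset.card_eq_one] at h4
      obtain ⟨c, hc⟩ := h4
      have hcc : p.1 • c = c := by simpa using (Finset.ext_iff.mp hc c).mpr (by simp)
      exact h3 c hcc (hq ▸ hcc)
    have ho1 : orderOf (y * p.1 * y⁻¹) = 2 := (MulEquiv.orderOf_eq (MulAut.conj y) p.1).trans h1
    have ho2 : orderOf (y * p.2 * y⁻¹) = 2 := (MulEquiv.orderOf_eq (MulAut.conj y) p.2).trans h2
    obtain ⟨i1, i2⟩ := D.invert_mul hbig ho1 ho2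
    rw [conj_mul] at i1 i2
    have f1 : (y * p.1 * y⁻¹) • a = a := D.le (D.invert_fix hbig hkH hk1 ho1 i1)
    have f2 : (y * p.2 * y⁻¹) • a = a := D.le (D.invert_fix hbig hkH hk1 ho2 i2)
    rw [mul_smul, mul_smul, ← eq_inv_smul_iff] at f1 f2
    exact h3 _ f1 f2
  have hfib : ∀ g ∈ X, (P.filter fun p => p.1 * p.2 = g).card ≤
      Nat.card (Subgroup.centralizer ({g} : Set G)) := by
    intro g _
    rcases (P.filter fun p => p.1 * p.2 = g).eq_empty_or_nonempty with h | ⟨q, hq⟩
    · simp [h]
    have hcinv : ∀ p ∈ P.filter (fun p => p.1 * p.2 = g), p.1 * g * p.1 = g⁻¹ := by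
      intro p hp
      simp only [hP, hT, Finset.mem_filter, Finset.mem_product, Finset.mem_univ, true_and] at hp
      rw [← hp.2]
      exact (D.invert_mul hbig hp.1.1.1 hp.1.1.2).1
    have hinv1 : ∀ p ∈ P.filter (fun p => p.1 * p.2 = g), p.1⁻¹ = p.1 := by
      intro p hp
      simp only [hP, hT, Finset.mem_filter, Finset.mem_product, Finset.mem_univ, true_and] at hp
      exact inv_eq_of_mul_eq_one_left (orderOf_two_iff.mp hp.1.1.1).1
    rw [← Fintype.card_coe, ← Nat.card_eq_fintype_card]
    refine Nat.card_le_card_of_injective (fun p => (⟨p.1.1 * q.1, ?_⟩ : Subgroup.centralizer ({g} : Set G)))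
      fun p p' h => ?_
    · rw [Subgroup.mem_centralizer_singleton_iff]
      have e1 : q.1 * g * q.1⁻¹ = g⁻¹ := by rw [hinv1 q hq]; exact hcinv q hq
      have e2 : p.1.1 * g⁻¹ * p.1.1⁻¹ = g := by
        rw [← conj_inv, hinv1 _ p.2, hcinv _ p.2, inv_inv]
      calc p.1.1 * q.1 * g = p.1.1 * (q.1 * g * q.1⁻¹) * p.1.1⁻¹ * (p.1.1 * q.1) := by group
        _ = g * (p.1.1 * q.1) := by rw [e1, e2]
    · have e1 : p.1.1 = p'.1.1 := mul_right_cancel (congrArg Subtype.val h)
      refine Subtype.ext (Prod.ext e1 (mul_left_cancel (a := p.1.1) ?_))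
      have e2 := (Finset.mem_filter.mp p.2).2
      have e3 := (Finset.mem_filter.mp p'.2).2
      rw [e2, e1, e3]
  have hsum : ∑ g ∈ X, Nat.card (Subgroup.centralizer ({g} : Set G)) =
      Nat.card {C : ConjClasses G // ∀ g : G, ConjClasses.mk g = C → g ∉ H} * Nat.card G := by
    rw [← Finset.sum_fiberwise_of_maps_to (t := Finset.univ.filter fun C : ConjClasses G =>
      ∀ g : G, ConjClasses.mk g = C → g ∉ H) (g := ConjClasses.mk) (fun g hg => ?_),
      Finset.sum_const_nat (m := Nat.card G) (fun C hC => ?_),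
      Nat.card_eq_fintype_card (α := {C : ConjClasses G // ∀ g : G, ConjClasses.mk g = C → g ∉ H}),
      Fintype.card_subtype]
    · obtain ⟨g, rfl⟩ := ConjClasses.mk_surjective C
      have hg := (Finset.mem_filter.mp hC).2
      have hset : (X.filter fun k => ConjClasses.mk k = ConjClasses.mk g) =
          Cfsg.Agent.Char.classFinset g := by
        ext k
        simp only [hX, Cfsg.Agent.Char.classFinset, Finset.mem_filter, Finset.mem_univ, true_and,
          ConjClasses.mk_eq_mk_iff_isConj]
        exact ⟨fun h => h.2.symm, fun hk => ⟨fun l hl => hg l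
          (ConjClasses.mk_eq_mk_iff_isConj.mpr (hk.trans hl).symm), hk.symm⟩⟩
      rw [hset, ← Subgroup.index_mul_card (Subgroup.centralizer ({g} : Set G)),
        ← Cfsg.Agent.Char.card_classFinset g]
      refine Finset.sum_const_nat fun k hk => ?_
      simp only [Cfsg.Agent.Char.classFinset, Finset.mem_filter, Finset.mem_univ, true_and] at hk
      have hcl : Cfsg.Agent.Char.classFinset k = Cfsg.Agent.Char.classFinset g := by
        ext z
        simp only [Cfsg.Agent.Char.classFinset, Finset.mem_filter, Finset.mem_univ, true_and]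
        exact ⟨hk.trans, hk.symm.trans⟩
      have h1 := congrArg Finset.card hcl
      rw [Cfsg.Agent.Char.card_classFinset, Cfsg.Agent.Char.card_classFinset] at h1
      have h2 := Subgroup.index_mul_card (Subgroup.centralizer ({k} : Set G))
      rw [h1, ← Subgroup.index_mul_card (Subgroup.centralizer ({g} : Set G))] at h2
      exact Nat.eq_of_mul_eq_mul_left (Nat.pos_of_ne_zero Subgroup.index_ne_zero_of_finite) h2
    · refine Finset.mem_filter.mpr ⟨Finset.mem_univ _, fun k hk => (Finset.mem_filter.mp hg).2 k ?_⟩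
      exact (ConjClasses.mk_eq_mk_iff_isConj.mp hk).symm
  have hle : P.card ≤ ∑ g ∈ X, Nat.card (Subgroup.centralizer ({g} : Set G)) := by
    rw [Finset.card_eq_sum_card_fiberwise (f := fun p : G × G => p.1 * p.2) (t := X) hmaps]
    exact Finset.sum_le_sum hfib
  rw [hsum, hPcard, hI, D.card_group, ← he] at hle
  refine le_of_mul_le_mul_right (a := (Nat.card H + 1) * (Nat.card H * e)) ?_ ?_
  · calc e * ((Nat.card H + 1) * (Nat.card H * e)) = (Nat.card H + 1) * e * (Nat.card H * e) := by ring
      _ ≤ _ := hle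
  · rw [he]; exact mul_pos (by omega) (mul_pos Nat.card_pos Nat.card_pos)

end Data

end Cfsg.Agent.Zass
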