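import Cfsg.Agent.Lib.Zassenhaus.Induced
import Cfsg.Agent.Lib.Char.TICases

/-!
# Exceptional characters of a Zassenhaus group with coherent relevant characters
-/

set_option linter.style.haveILetI false
set_option linter.unusedSectionVars false

namespace Cfsg.Agent.Zass

open MulAction Cfsg.Agent.Char
open scoped Classical ComplexConjugate

universe u v

variable {G : Type u} [Group G] [Fintype G] {Ω : Type v} [MulAction G Ω] [Fintype Ω]

/-- The relevant characters of the normaliser of `H`. -/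
abbrev SSet (H : Subgroup G) : Set (↥(Subgroup.normalizer (H : Set G)) → ℂ) :=
  Cfsg.inducedIrrAbove (H.subgroupOf (Subgroup.normalizer (H : Set G))) ⊥

/-- The exceptional characters: `w ξ` is an irreducible character up to sign. -/
structure Exc (H : Subgroup G) (T : Finset (↥(Subgroup.normalizer (H : Set G)) → ℂ))
    (w : (↥(Subgroup.normalizer (H : Set G)) → ℂ) → (G → ℂ)) : Prop where
  mem : ∀ ξ, ξ ∈ T ↔ ξ ∈ SSet H
  sign : ∀ ξ ∈ T, Cfsg.IsIrrCharacter G (w ξ) ∨ Cfsg.IsIrrCharacter G (-w ξ)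
  orth : ∀ ξ ∈ T, ∀ ζ ∈ T, Cfsg.classInner (w ξ) (w ζ) = if ξ = ζ then 1 else 0
  diff : ∀ ξ ∈ T, ∀ ζ ∈ T, ζ 1 • w ξ - ξ 1 • w ζ =
    Cfsg.indFun (Subgroup.normalizer (H : Set G)) (ζ 1 • ξ - ξ 1 • ζ)

namespace Exc

variable {H : Subgroup G} {T : Finset (↥(Subgroup.normalizer (H : Set G)) → ℂ)}
  {w : (↥(Subgroup.normalizer (H : Set G)) → ℂ) → (G → ℂ)} (hw : Exc H T w)
include hw

theorem eq_or_neg {θ : G → ℂ} (hθ : Cfsg.IsIrrCharacter G θ) {ξ : ↥(Subgroup.normalizer (H : Set G)) → ℂ}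
    (hξ : ξ ∈ T) (h : Cfsg.classInner θ (w ξ) ≠ 0) : w ξ = θ ∨ w ξ = -θ := by
  rcases hw.sign ξ hξ with hi | hi
  · left
    by_contra hne
    exact h (classInner_irr_of_ne hθ hi (fun e => hne e.symm))
  · right
    by_contra hne
    refine h ?_
    have := classInner_irr_of_ne hθ hi (fun e => hne (by rw [e, neg_neg]))
    rwa [classInner_neg_right, neg_eq_zero] at this

theorem one_ne_zero {ξ : ↥(Subgroup.normalizer (H : Set G)) → ℂ} (hξ : ξ ∈ T) : w ξ 1 ≠ 0 := by
  intro h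
  rcases hw.sign ξ hξ with hi | hi
  · exact IsIrrCharacter.one_ne_zero hi h
  · exact IsIrrCharacter.one_ne_zero hi (by rw [Pi.neg_apply, h, neg_zero])

theorem degree {ξ ζ : ↥(Subgroup.normalizer (H : Set G)) → ℂ} (hξ : ξ ∈ T) (hζ : ζ ∈ T) :
    ζ 1 * w ξ 1 = ξ 1 * w ζ 1 := by
  have h := congrFun (hw.diff ξ hξ ζ hζ) 1
  simp only [Pi.sub_apply, Pi.smul_apply, smul_eq_mul, indFun_one_apply] at h
  linear_combination h

end Exc

namespace Data

variable {a b : Ω} {H : Subgroup G} (D : Data a b H)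
include D

theorem mem_stab_of_normalizer {g : G} (hg : g ∈ Subgroup.normalizer (H : Set G)) : g • a = a := by
  rw [D.normalizer_eq] at hg
  exact hg

theorem frob_normalizer : ∀ k ∈ H.subgroupOf (Subgroup.normalizer (H : Set G)), k ≠ 1 →
    Subgroup.centralizer ({k} : Set ↥(Subgroup.normalizer (H : Set G))) ≤
      H.subgroupOf (Subgroup.normalizer (H : Set G)) :=
  TIK.frob fun _ hk h1 => D.centralizer_le hk h1

theorem card_sub_index : Nat.card (H.subgroupOf (Subgroup.normalizer (H : Set G))) = Nat.card H ∧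
    (H.subgroupOf (Subgroup.normalizer (H : Set G))).index = Nat.card (two (G := G) a b) := by
  have h1 := TICases.sub_card H
  refine ⟨h1, ?_⟩
  have h2 := Subgroup.index_mul_card (H.subgroupOf (Subgroup.normalizer (H : Set G)))
  have h3 : Nat.card ↥(Subgroup.normalizer (H : Set G)) = Nat.card H * Nat.card (two (G := G) a b) := by
    rw [D.normalizer_eq, D.card_stab]
  rw [h1, h3, mul_comm (Nat.card H)] at h2
  exact Nat.eq_of_mul_eq_mul_right Nat.card_pos h2

theorem exists_exc (hcoh : Cfsg.IsCoherent (SSet H) ({1}ᶜ : Set _)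
    (fun α => Cfsg.indFun (Subgroup.normalizer (H : Set G)) α)) :
    ∃ T w, Exc H T w := by
  obtain ⟨-, τ₁, hiso, hext⟩ := hcoh
  have hirr : ∀ ξ ∈ SSet H, Cfsg.IsIrrCharacter _ ξ := fun ξ h =>
    Feit.above_irr _ D.frob_normalizer h
  have hfin : (SSet H).Finite :=
    (Set.finite_range (Subtype.val : Cfsg.IrrCharacter ↥(Subgroup.normalizer (H : Set G)) → _)).subset
      fun ξ h => ⟨⟨ξ, hirr ξ h⟩, rfl⟩
  refine ⟨hfin.toFinset, τ₁, ⟨fun ξ => hfin.mem_toFinset, fun ξ hξ => ?_, fun ξ hξ ζ hζ => ?_,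
    fun ξ hξ ζ hζ => ?_⟩⟩
  · have h := hfin.mem_toFinset.mp hξ
    refine IsGeneralizedCharacter.of_norm_one (hiso.2.2.2 ξ (Coherence.subset_zspan h)) ?_
    rw [hiso.2.2.1 ξ (Coherence.subset_zspan h) ξ (Coherence.subset_zspan h),
      classInner_self_irr (hirr ξ h)]
  · have h := hfin.mem_toFinset.mp hξ
    have h' := hfin.mem_toFinset.mp hζ
    rw [hiso.2.2.1 ξ (Coherence.subset_zspan h) ζ (Coherence.subset_zspan h')]
    split_ifs with e
    · rw [← e, classInner_self_irr (hirr ξ h)]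
    · exact classInner_irr_of_ne (hirr ξ h) (hirr ζ h') e
  · have h := hfin.mem_toFinset.mp hξ
    have h' := hfin.mem_toFinset.mp hζ
    obtain ⟨dξ, -, hdξ⟩ := IsIrrCharacter.exists_degree (hirr ξ h)
    obtain ⟨dζ, -, hdζ⟩ := IsIrrCharacter.exists_degree (hirr ζ h')
    have e : ζ 1 • ξ - ξ 1 • ζ = (dζ : ℤ) • ξ + (-(dξ : ℤ)) • ζ := by
      rw [hdξ, hdζ, neg_smul, ← sub_eq_add_neg]
      simp only [← Int.cast_smul_eq_zsmul ℂ, Int.cast_natCast]
    have hsm : ∀ (n : ℤ) {φ}, φ ∈ SSet H → n • φ ∈ Cfsg.zspan (SSet H) := fun n φ hφ =>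
      Submodule.smul_mem _ n (Coherence.subset_zspan hφ)
    have hmem : (dζ : ℤ) • ξ + (-(dξ : ℤ)) • ζ ∈ Cfsg.zspanOn (SSet H) ({1}ᶜ : Set _) :=
      Coherence.mem_zspanOn_one.mpr ⟨Submodule.add_mem _ (hsm _ h) (hsm _ h'), by
        rw [← e]; simp [hdξ, hdζ, mul_comm]⟩
    have h2 := hext _ hmem
    rw [hiso.1 _ (hsm _ h) _ (hsm _ h'), hiso.2.1 ξ (Coherence.subset_zspan h),
      hiso.2.1 ζ (Coherence.subset_zspan h')] at h2
    simp only at h2
    rw [e, ← h2, hdξ, hdζ, neg_smul, ← sub_eq_add_neg]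
    simp only [← Int.cast_smul_eq_zsmul ℂ, Int.cast_natCast]

variable {T : Finset (↥(Subgroup.normalizer (H : Set G)) → ℂ)}
  {w : (↥(Subgroup.normalizer (H : Set G)) → ℂ) → (G → ℂ)} (hw : Exc H T w)
include hw

theorem exc_irr {ξ : ↥(Subgroup.normalizer (H : Set G)) → ℂ} (hξ : ξ ∈ T) :
    Cfsg.IsIrrCharacter _ ξ ∧ Frob.Rel (H.subgroupOf (Subgroup.normalizer (H : Set G))) ξ := by
  have h := (hw.mem ξ).mp hξ
  rw [SSet, Feit.above_bot_eq _ D.frob_normalizer] at h
  exact h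

theorem inner_diff {f : G → ℂ} (hf : Cfsg.IsClassFunction G f) {c : ℂ}
    (hc : ∀ u ∈ H, u ≠ 1 → f u = c) {ξ ζ : ↥(Subgroup.normalizer (H : Set G)) → ℂ}
    (hξ : ξ ∈ T) (hζ : ζ ∈ T) :
    conj (ζ 1) * Cfsg.classInner f (w ξ) = conj (ξ 1) * Cfsg.classInner f (w ζ) := by
  have h := congrArg (Cfsg.classInner f) (hw.diff ξ hξ ζ hζ)
  rw [classInner_indFun_right _ _ hf, classInner_sub_right, classInner_smul_right,
    classInner_smul_right, classInner_sub_right, classInner_smul_right, classInner_smul_right] at h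
  obtain ⟨h1, h2⟩ := D.exc_irr hw hξ
  obtain ⟨h3, h4⟩ := D.exc_irr hw hζ
  have hprop : ∀ {χ : ↥(Subgroup.normalizer (H : Set G)) → ℂ}, Cfsg.IsIrrCharacter _ χ →
      Frob.Rel (H.subgroupOf (Subgroup.normalizer (H : Set G))) χ →
      Cfsg.classInner (fun g : ↥(Subgroup.normalizer (H : Set G)) => f g) χ =
        (Nat.card ↥(Subgroup.normalizer (H : Set G)) : ℂ)⁻¹ * (f 1 - c) * χ 1 := by
    intro χ hχ hrel
    have := Frob.proportional_of_const D.frob_normalizer
      (f := fun g : ↥(Subgroup.normalizer (H : Set G)) => f g) (a := c)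
      (fun k hk hk1 => hc k (Subgroup.mem_subgroupOf.mp hk) (fun e => hk1 (Subtype.ext e))) hχ hrel
    simpa using this
  rw [hprop h1 h2, hprop h3 h4] at h
  obtain ⟨dξ, -, hdξ⟩ := IsIrrCharacter.exists_degree h1
  obtain ⟨dζ, -, hdζ⟩ := IsIrrCharacter.exists_degree h3
  rw [hdξ, hdζ] at h ⊢
  simp only [map_natCast] at h ⊢
  linear_combination h

/-- A character orthogonal to all exceptional characters is constant on the kernel. -/
theorem const_of_orth {f : G → ℂ} (hf : Cfsg.IsClassFunction G f)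
    (h0 : ∀ ξ ∈ T, Cfsg.classInner f (w ξ) = 0) :
    ∃ c : ℂ, ∀ u ∈ H, u ≠ 1 → f u = c := by
  set φ : ↥(Subgroup.normalizer (H : Set G)) → ℂ := fun g => f g with hφ
  have hφc : Cfsg.IsClassFunction _ φ := fun g y => hf g y
  have key : ∀ ξ ∈ T, ∀ ζ ∈ T, conj (ζ 1) * Cfsg.classInner φ ξ = conj (ξ 1) * Cfsg.classInner φ ζ := by
    intro ξ hξ ζ hζ
    have h := congrArg (Cfsg.classInner f) (hw.diff ξ hξ ζ hζ)
    rw [classInner_indFun_right _ _ hf, classInner_sub_right, classInner_smul_right,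
      classInner_smul_right, classInner_sub_right, classInner_smul_right, classInner_smul_right,
      h0 ξ hξ, h0 ζ hζ, mul_zero, mul_zero, sub_zero] at h
    linear_combination -h
  obtain ⟨k, hk⟩ : ∃ k : ℂ, ∀ χ : Cfsg.IrrCharacter ↥(Subgroup.normalizer (H : Set G)),
      Frob.Rel (H.subgroupOf (Subgroup.normalizer (H : Set G))) (χ : ↥(Subgroup.normalizer (H : Set G)) → ℂ) →
        Cfsg.classInner φ χ = k * (χ : ↥(Subgroup.normalizer (H : Set G)) → ℂ) 1 := by
    have hmem : ∀ χ : Cfsg.IrrCharacter ↥(Subgroup.normalizer (H : Set G)),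
        Frob.Rel (H.subgroupOf (Subgroup.normalizer (H : Set G))) (χ : ↥(Subgroup.normalizer (H : Set G)) → ℂ) → (χ : ↥(Subgroup.normalizer (H : Set G)) → ℂ) ∈ T := by
      intro χ hχ
      rw [hw.mem, SSet, Feit.above_bot_eq _ D.frob_normalizer]
      exact ⟨χ.2, hχ⟩
    rcases T.eq_empty_or_nonempty with hT | ⟨ζ, hζ⟩
    · exact ⟨0, fun χ hχ => absurd (hmem χ hχ) (by simp [hT])⟩
    obtain ⟨dζ, hd0, hdζ⟩ := IsIrrCharacter.exists_degree (D.exc_irr hw hζ).1
    refine ⟨Cfsg.classInner φ ζ / dζ, fun χ hχ => ?_⟩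
    have h := key _ (hmem χ hχ) ζ hζ
    obtain ⟨d, -, hd⟩ := IsIrrCharacter.exists_degree χ.2
    rw [hdζ, hd] at h
    simp only [map_natCast] at h
    rw [hd]
    have hne : (dζ : ℂ) ≠ 0 := Nat.cast_ne_zero.mpr (by omega)
    field_simp
    linear_combination h
  refine ⟨_, fun u hu hu1 => Frob.eval_of_proportional D.frob_normalizer hφc hk
    (k := ⟨u, Subgroup.le_normalizer hu⟩) (Subgroup.mem_subgroupOf.mpr hu)
    (fun e => hu1 (congrArg Subtype.val e))⟩

end Data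

end Cfsg.Agent.Zass
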