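import Cfsg.Agent.Lib.Zassenhaus.Classes
import Cfsg.Agent.Lib.Char.Induction

/-!
# Functions induced from a point stabiliser of a Zassenhaus group
-/

set_option linter.style.haveILetI false
set_option linter.unusedSectionVars false

namespace Cfsg.Agent.Zass

open MulAction
open scoped Classical ComplexConjugate

universe u v

variable {G : Type u} [Group G] [Fintype G] {Ω : Type v} [MulAction G Ω] [Fintype Ω]

/-- The inclusion of the two-point stabiliser. -/
def emb (a b : Ω) : two (G := G) a b →* stabilizer G a := Subgroup.inclusion inf_le_left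

@[simp] theorem coe_emb (a b : Ω) (x : two (G := G) a b) : ((emb a b x : stabilizer G a) : G) = x := rfl

/-- A function on the stabiliser of `a`, restricted to the two-point stabiliser. -/
def res (a b : Ω) (μ : stabilizer G a → ℂ) : two (G := G) a b → ℂ := fun x => μ (emb a b x)

theorem sum_emb (a b : Ω) (f : stabilizer G a → ℂ) :
    ∑ g : stabilizer G a, (if (g : G) • b = b then f g else 0) =
      ∑ x : two (G := G) a b, f (emb a b x) := by
  rw [← Finset.sum_filter]
  refine Finset.sum_bij' (fun g hg => ⟨(g : G), mem_two.mpr ⟨g.2, (Finset.mem_filter.mp hg).2⟩⟩)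
    (fun x _ => emb a b x) (fun _ _ => Finset.mem_univ _)
    (fun x _ => Finset.mem_filter.mpr ⟨Finset.mem_univ _, (mem_two.mp x.2).2⟩)
    (fun _ _ => rfl) (fun _ _ => rfl) (fun _ _ => rfl)

theorem sum_stab (a : Ω) (z : ℂ) :
    ∑ y : G, (if y • a = a then z else 0) = (Nat.card (stabilizer G a) : ℂ) * z := by
  rw [← Finset.sum_filter, Finset.sum_const, nsmul_eq_mul, ← Fintype.card_subtype,
    ← Nat.card_eq_fintype_card]
  rfl

namespace Data

variable {a b : Ω} {H : Subgroup G} (D : Data a b H)
include D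

theorem sum_split {f : stabilizer G a → ℂ} (hf : Cfsg.IsClassFunction _ f) :
    ∑ g : stabilizer G a, f g + (Nat.card H : ℂ) * f 1 =
      ∑ u : H, f (Subgroup.inclusion D.le u) +
        (Nat.card H : ℂ) * ∑ x : two (G := G) a b, f (emb a b x) := by
  have hcard : (Finset.univ.erase a).card = Nat.card H := by
    rw [Finset.card_erase_of_mem (Finset.mem_univ a), Finset.card_univ, ← D.card, Nat.add_sub_cancel]
  have hper : ∀ c ∈ Finset.univ.erase a,
      ∑ g : stabilizer G a, (if (g : G) • c = c then f g else 0) =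
        ∑ x : two (G := G) a b, f (emb a b x) := by
    intro c hc
    obtain ⟨t, t1, t2⟩ := move D.zg (Finset.ne_of_mem_erase hc).symm D.ne
    rw [← sum_emb a b f]
    refine Fintype.sum_equiv (MulAut.conj (⟨t, t1⟩ : stabilizer G a)).toEquiv _ _ fun g => ?_
    simp only [MulEquiv.toEquiv_eq_coe, MulEquiv.coe_toEquiv, MulAut.conj_apply, Subgroup.coe_mul,
      Subgroup.coe_inv]
    have hiff : (t * (g : G) * t⁻¹) • b = b ↔ (g : G) • c = c := by
      rw [← t2, mul_smul, mul_smul, inv_smul_smul, smul_left_cancel_iff]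
    simp only [hiff, hf g (⟨t, t1⟩ : stabilizer G a)]
  have hcnt : ∀ g : stabilizer G a,
      ((Finset.univ.erase a).filter fun c => (g : G) • c = c).card + (if (g : G) ∈ H then 1 else 0) =
        1 + if g = 1 then Nat.card H else 0 := by
    intro g
    by_cases h1 : g = 1
    · subst h1
      rw [if_pos (by simp), if_pos rfl, Finset.filter_true_of_mem fun c _ => by simp, hcard]
      ring
    rw [if_neg h1, add_zero]
    have hg1 : (g : G) ≠ 1 := fun h => h1 (Subtype.ext h)
    by_cases hH : (g : G) ∈ H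
    · rw [if_pos hH]
      simp only [add_eq_right, Finset.card_eq_zero, Finset.filter_eq_empty_iff]
      exact fun c hc h => Finset.ne_of_mem_erase hc (D.fixed _ hH hg1 c h)
    · rw [if_neg hH, add_zero, Finset.card_eq_one]
      obtain ⟨c, hca, hc⟩ := D.exists_fixed g.2 hH
      refine ⟨c, Finset.eq_singleton_iff_unique_mem.mpr ⟨by simp [hca, hc], fun d hd => ?_⟩⟩
      simp only [Finset.mem_filter, Finset.mem_erase, Finset.mem_univ, and_true] at hd
      by_contra hdc
      exact hg1 (three D.zg (Ne.symm hd.1) hdc (Ne.symm hca) g.2 hd.2 hc)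
  have h1 := Finset.sum_congr (s₁ := Finset.univ.erase a) rfl hper
  rw [Finset.sum_comm, Finset.sum_const, hcard, nsmul_eq_mul] at h1
  have hH : ∑ g : stabilizer G a, (if (g : G) ∈ H then f g else 0) =
      ∑ u : H, f (Subgroup.inclusion D.le u) := by
    rw [← Finset.sum_filter]
    exact Finset.sum_bij' (fun g hg => ⟨(g : G), (Finset.mem_filter.mp hg).2⟩)
      (fun u _ => Subgroup.inclusion D.le u) (fun _ _ => Finset.mem_univ _)
      (fun u _ => Finset.mem_filter.mpr ⟨Finset.mem_univ _, u.2⟩)
      (fun _ _ => rfl) (fun _ _ => rfl) (fun _ _ => rfl)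
  rw [← h1, ← hH]
  have hterm : ∀ g : stabilizer G a,
      ∑ c ∈ Finset.univ.erase a, (if (g : G) • c = c then f g else 0) +
        (if (g : G) ∈ H then f g else 0) = f g + if g = 1 then (Nat.card H : ℂ) * f g else 0 := by
    intro g
    have h := congrArg (fun n : ℕ => (n : ℂ) * f g) (hcnt g)
    simp only [Nat.cast_add, Nat.cast_ite, Nat.cast_one, Nat.cast_zero, add_mul, one_mul, ite_mul,
      zero_mul] at h
    rw [← Finset.sum_filter, Finset.sum_const, nsmul_eq_mul]
    exact h
  have h2 := Finset.sum_congr (s₁ := (Finset.univ : Finset (stabilizer G a))) rfl fun g _ => hterm g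
  rw [Finset.sum_add_distrib, Finset.sum_add_distrib, Finset.sum_ite_eq', if_pos (Finset.mem_univ _)] at h2
  rw [← h2]
  ring

variable {μ : stabilizer G a → ℂ}

theorem ind_one : Cfsg.indFun (stabilizer G a) μ 1 = ((Nat.card H : ℂ) + 1) * μ 1 := by
  rw [Cfsg.Agent.Char.indFun_one_apply]
  congr 1
  haveI := D.zg.2.1
  haveI : MulAction.IsPretransitive G Ω :=
    MulAction.isPretransitive_of_is_two_pretransitive
  rw [MulAction.index_stabilizer, MulAction.orbit_eq_univ, Set.ncard_univ, Nat.card_eq_fintype_card,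
    ← D.card]
  push_cast
  ring

theorem ind_H (hμ : ∀ v : stabilizer G a, (v : G) ∈ H → μ v = μ 1) {u : G} (hu : u ∈ H) (hu1 : u ≠ 1) :
    Cfsg.indFun (stabilizer G a) μ u = μ 1 := by
  have key : ∀ y : G, Cfsg.extendByZero (stabilizer G a) μ (y⁻¹ * u * y) =
      if y • a = a then μ 1 else 0 := by
    intro y
    split_ifs with hy
    · have hmem : y⁻¹ * u * y ∈ H := by
        simpa using D.conj_mem (Subgroup.inv_mem _ (show y ∈ stabilizer G a from hy)) hu
      rw [Cfsg.Agent.Char.extendByZero_mem _ μ (D.le hmem)]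
      exact hμ _ hmem
    · refine Cfsg.Agent.Char.extendByZero_not_mem _ μ fun h => hy ?_
      have h' : (y⁻¹ * u * y) • a = a := h
      rw [mul_smul, mul_smul, inv_smul_eq_iff] at h'
      exact D.fixed u hu hu1 _ h'
  rw [Cfsg.Agent.Char.indFun_apply, Finset.sum_congr rfl fun y _ => key y, sum_stab, ← mul_assoc,
    inv_mul_cancel₀ (Nat.cast_ne_zero.mpr Nat.card_pos.ne'), one_mul]

theorem ind_two (hμc : Cfsg.IsClassFunction _ μ) {s : G} (hs : Swap a b s)
    {x : two (G := G) a b} (hx : x ≠ 1) :
    Cfsg.indFun (stabilizer G a) μ x = res a b μ x + res a b μ (sig hs x) := by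
  have key : ∀ y : G, Cfsg.extendByZero (stabilizer G a) μ (y⁻¹ * x * y) =
      (if y • a = a then res a b μ x else 0) + (if (s * y) • a = a then res a b μ (sig hs x) else 0) := by
    intro y
    have hsy : (s * y) • a = a ↔ y • a = b := by
      rw [mul_smul, smul_eq_iff_eq_inv_smul, inv_eq_of_mul_eq_one_left hs.sq, hs.sa]
    by_cases hy : y • a = a
    · rw [if_pos hy, if_neg (fun h => D.ne (hy.symm.trans (hsy.mp h))), add_zero]
      have hmem : y⁻¹ * x * y ∈ stabilizer G a :=
        Subgroup.mul_mem _ (Subgroup.mul_mem _ (Subgroup.inv_mem _ hy) (mem_two.mp x.2).1) hy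
      rw [Cfsg.Agent.Char.extendByZero_mem _ μ hmem, ← hμc (⟨_, hmem⟩ : stabilizer G a) ⟨y, hy⟩]
      exact congrArg μ (Subtype.ext (by simp [mul_assoc]))
    rw [if_neg hy, zero_add]
    by_cases hyb : y • a = b
    · rw [if_pos (hsy.mpr hyb)]
      have hmem : y⁻¹ * x * y ∈ stabilizer G a := by
        show (y⁻¹ * x * y) • a = a
        rw [mul_smul, mul_smul, hyb, (mem_two.mp x.2).2, inv_smul_eq_iff, hyb]
      rw [Cfsg.Agent.Char.extendByZero_mem _ μ hmem,
        ← hμc (⟨_, hmem⟩ : stabilizer G a) ⟨s * y, hsy.mpr hyb⟩]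
      refine congrArg μ (Subtype.ext ?_)
      show s * y * (y⁻¹ * x * y) * (s * y)⁻¹ = s * x * s
      rw [mul_inv_rev, inv_eq_of_mul_eq_one_left hs.sq]
      group
    · rw [if_neg (fun h => hyb (hsy.mp h))]
      refine Cfsg.Agent.Char.extendByZero_not_mem _ μ fun h => ?_
      have h' : (y⁻¹ * x * y) • a = a := h
      rw [mul_smul, mul_smul, inv_smul_eq_iff] at h'
      rcases D.fixed_pair x.2 (fun e => hx (Subtype.ext e)) h' with e | e
      · exact hy e
      · exact hyb e
  rw [Cfsg.Agent.Char.indFun_apply, Finset.sum_congr rfl fun y _ => key y, Finset.sum_add_distrib,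
    sum_stab, Fintype.sum_equiv (Equiv.mulLeft s) (fun y => if (s * y) • a = a then res a b μ (sig hs x) else 0)
      (fun y => if y • a = a then res a b μ (sig hs x) else 0) (fun _ => rfl), sum_stab, ← mul_add,
    ← mul_assoc, inv_mul_cancel₀ (Nat.cast_ne_zero.mpr Nat.card_pos.ne'), one_mul]

variable {ν : stabilizer G a → ℂ}

theorem inner_eq_res (hμc : Cfsg.IsClassFunction _ μ) (hνc : Cfsg.IsClassFunction _ ν)
    (hμ : ∀ v : stabilizer G a, (v : G) ∈ H → μ v = μ 1)
    (hν : ∀ v : stabilizer G a, (v : G) ∈ H → ν v = ν 1) :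
    Cfsg.classInner μ ν = Cfsg.classInner (res a b μ) (res a b ν) := by
  have h := D.sum_split (f := fun g => μ g * conj (ν g))
    (fun g y => by simp only [hμc g y, hνc g y])
  have hu : ∀ u : H, μ (Subgroup.inclusion D.le u) * conj (ν (Subgroup.inclusion D.le u)) =
      μ 1 * conj (ν 1) := fun u => by rw [hμ _ u.2, hν _ u.2]
  rw [Finset.sum_congr rfl fun u _ => hu u, Finset.sum_const, Finset.card_univ, nsmul_eq_mul,
    ← Nat.card_eq_fintype_card, add_comm, add_right_inj] at h
  have hH : (Nat.card H : ℂ) ≠ 0 := Nat.cast_ne_zero.mpr Nat.card_pos.ne'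
  have hE : (Nat.card (two (G := G) a b) : ℂ) ≠ 0 := Nat.cast_ne_zero.mpr Nat.card_pos.ne'
  simp only [Cfsg.classInner, h, D.card_stab, Nat.cast_mul, res]
  field_simp

theorem inner_ind (hμc : Cfsg.IsClassFunction _ μ) (hνc : Cfsg.IsClassFunction _ ν)
    (hμ : ∀ v : stabilizer G a, (v : G) ∈ H → μ v = μ 1)
    (hν : ∀ v : stabilizer G a, (v : G) ∈ H → ν v = ν 1) {s : G} (hs : Swap a b s) :
    Cfsg.classInner (Cfsg.indFun (stabilizer G a) μ) (Cfsg.indFun (stabilizer G a) ν) =
      Cfsg.classInner (res a b μ) (res a b ν) +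
        Cfsg.classInner (res a b μ) (fun x => res a b ν (sig hs x)) := by
  have hI : Cfsg.IsClassFunction G (Cfsg.indFun (stabilizer G a) ν) :=
    Cfsg.Agent.Char.isClassFunction_indFun _ ν
  rw [Cfsg.Agent.Char.classInner_indFun_left (stabilizer G a) μ hI]
  have h := D.sum_split (f := fun g : stabilizer G a =>
      μ g * conj (Cfsg.indFun (stabilizer G a) ν g))
    (fun g y => by simp only [hμc g y, Subgroup.coe_mul, Subgroup.coe_inv, hI (g : G) (y : G)])
  have hu : ∀ u : H, μ (Subgroup.inclusion D.le u) *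
      conj (Cfsg.indFun (stabilizer G a) ν (Subgroup.inclusion D.le u : stabilizer G a)) =
      μ 1 * conj (ν 1) + if u = 1 then (Nat.card H : ℂ) * (μ 1 * conj (ν 1)) else 0 := by
    intro u
    split_ifs with h1
    · subst h1
      rw [map_one, Subgroup.coe_one, D.ind_one, map_mul, map_add, map_natCast, map_one]
      ring
    · rw [hμ _ u.2, Subgroup.coe_inclusion, D.ind_H hν u.2 (fun e => h1 (Subtype.ext e)), add_zero]
  have hx : ∀ x : two (G := G) a b, μ (emb a b x) *
      conj (Cfsg.indFun (stabilizer G a) ν (emb a b x : stabilizer G a)) =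
      res a b μ x * conj (res a b ν x) + res a b μ x * conj (res a b ν (sig hs x)) +
        if x = 1 then ((Nat.card H : ℂ) - 1) * (μ 1 * conj (ν 1)) else 0 := by
    intro x
    rw [coe_emb]
    split_ifs with h1
    · subst h1
      rw [OneMemClass.coe_one, D.ind_one, map_one (sig hs)]
      simp only [res, map_one, map_mul, map_add, map_natCast]
      ring
    · rw [D.ind_two hνc hs h1, map_add, res, add_zero, mul_add]
      rfl
  rw [Finset.sum_congr rfl fun u _ => hu u, Finset.sum_congr rfl fun x _ => hx x,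
    Finset.sum_add_distrib, Finset.sum_add_distrib, Finset.sum_add_distrib, Finset.sum_const,
    Finset.sum_ite_eq', Finset.sum_ite_eq', if_pos (Finset.mem_univ _), if_pos (Finset.mem_univ _),
    Finset.card_univ, nsmul_eq_mul, ← Nat.card_eq_fintype_card, Subgroup.coe_one, D.ind_one,
    map_mul, map_add, map_natCast, map_one] at h
  have hsum : ∑ g : stabilizer G a, μ g * conj (Cfsg.indFun (stabilizer G a) ν g) =
      (Nat.card H : ℂ) * (∑ x : two (G := G) a b, res a b μ x * conj (res a b ν x) +
        ∑ x : two (G := G) a b, res a b μ x * conj (res a b ν (sig hs x))) := by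
    linear_combination h
  have hH : (Nat.card H : ℂ) ≠ 0 := Nat.cast_ne_zero.mpr Nat.card_pos.ne'
  have hE : (Nat.card (two (G := G) a b) : ℂ) ≠ 0 := Nat.cast_ne_zero.mpr Nat.card_pos.ne'
  simp only [Cfsg.classInner, hsum, D.card_stab, Nat.cast_mul]
  field_simp

end Data

end Cfsg.Agent.Zass
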