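import Cfsg.Agent.Lib.Zassenhaus.Feit
import Mathlib.GroupTheory.Subgroup.Simple

/-!
# Characters induced from linear characters of a point stabiliser
-/

set_option linter.style.haveILetI false
set_option linter.unusedSectionVars false

namespace Cfsg.Agent.Zass

open MulAction Cfsg.Agent.Char
open scoped Classical ComplexConjugate

universe u v

variable {G : Type u} [Group G] [Fintype G] {Ω : Type v} [MulAction G Ω] [Fintype Ω]

namespace Data

variable {a b : Ω} {H : Subgroup G} (D : Data a b H)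
include D

variable [IsSimpleGroup G]

theorem eq_one_of_kernel {θ : G → ℂ} (hθ : Cfsg.IsIrrCharacter G θ) {u : G} (hu1 : u ≠ 1)
    (h : θ u = θ 1) : θ = fun _ => 1 := by
  obtain ⟨N, hN, hmem, -⟩ := IsCharacter.exists_kernel (IsIrrCharacter.isCharacter hθ)
  have htop : N = ⊤ := (hN.eq_bot_or_eq_top).resolve_left fun hb =>
    hu1 (Subgroup.mem_bot.mp (hb ▸ (hmem u).mpr h))
  by_contra hne
  have h0 := classInner_irr_of_ne hθ isIrrCharacter_one hne
  simp only [Cfsg.classInner, map_one, mul_one] at h0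
  rw [Finset.sum_congr rfl fun g _ => (hmem g).mp (htop ▸ Subgroup.mem_top g), Finset.sum_const,
    Finset.card_univ, nsmul_eq_mul] at h0
  rcases mul_eq_zero.mp h0 with h' | h'
  · simp [Nat.card_pos.ne'] at h'
  · rcases mul_eq_zero.mp h' with h'' | h''
    · simp [Fintype.card_ne_zero] at h''
    · exact IsIrrCharacter.one_ne_zero hθ h''

/-- The `H`-multiplicity of the principal character in a character constant on `H \ 1`. -/
theorem exists_defect {θ : G → ℂ} (hθ : Cfsg.IsIrrCharacter G θ) (hθ1 : θ ≠ fun _ => 1) {c : ℂ}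
    (hc : ∀ u ∈ H, u ≠ 1 → θ u = c) :
    ∃ k : ℕ, ∃ j : ℤ, 1 ≤ j ∧ θ 1 + ((Nat.card H : ℂ) - 1) * c = (Nat.card H : ℂ) * k ∧
      θ 1 = (k : ℂ) + ((Nat.card H : ℂ) - 1) * j := by
  obtain ⟨d, -, hd⟩ := IsIrrCharacter.exists_degree hθ
  obtain ⟨u, hu, hu1⟩ := (Subgroup.bot_or_exists_ne_one H).resolve_left D.H_ne_bot
  have hh := D.two_le_h
  obtain ⟨k, hk⟩ := IsCharacter.exists_classInner_nat
    (IsCharacter.restrict (IsIrrCharacter.isCharacter hθ) H) isCharacter_one
  simp only [Cfsg.classInner, map_one, mul_one, D.sum_H_eq hc] at hk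
  rw [inv_mul_eq_iff_eq_mul₀ (Nat.cast_ne_zero.mpr Nat.card_pos.ne'), hd] at hk
  have hne : ((Nat.card H : ℚ) - 1) ≠ 0 := by
    have : (2 : ℚ) ≤ Nat.card H := by exact_mod_cast hh
    linarith
  have hneC : ((Nat.card H : ℂ) - 1) ≠ 0 := by
    have := (Rat.cast_ne_zero (α := ℂ)).mpr hne
    simpa using this
  have hcq : c = ((((Nat.card H : ℚ) * k - d) / ((Nat.card H : ℚ) - 1) : ℚ) : ℂ) := by
    push_cast
    rw [eq_div_iff hneC]
    linear_combination hk
  have hint : IsIntegral ℤ c := hc u hu hu1 ▸ IsCharacter.isIntegral (IsIrrCharacter.isCharacter hθ) u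
  obtain ⟨n, hn⟩ := exists_int_of_isIntegral (hcq ▸ hint)
  have hcn : c = (n : ℂ) := by rw [hcq, hn]; push_cast; rfl
  have hle := IsIrrCharacter.norm_le hθ hd u
  rw [hc u hu hu1, hcn, Complex.norm_intCast] at hle
  have hle' : |n| ≤ (d : ℤ) := by exact_mod_cast hle
  have hlt : n < d := lt_of_le_of_ne ((le_abs_self n).trans hle') fun e =>
    hθ1 (D.eq_one_of_kernel hθ hu1 (by rw [hc u hu hu1, hcn, hd, e]; push_cast; rfl))
  have hk' : (d : ℤ) + ((Nat.card H : ℤ) - 1) * n = (Nat.card H : ℤ) * k := by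
    have : ((d + ((Nat.card H : ℤ) - 1) * n : ℤ) : ℂ) = (((Nat.card H : ℤ) * k : ℤ) : ℂ) := by
      push_cast
      rw [← hcn]
      exact hk
    exact_mod_cast this
  refine ⟨k, (k : ℤ) - n, ?_, by rw [hd]; exact hk, ?_⟩
  · have h1 : ((Nat.card H : ℤ) - 1) * n < ((Nat.card H : ℤ) - 1) * d :=
      mul_lt_mul_of_pos_left hlt (by omega)
    have h2 : (k : ℤ) < d := by
      by_contra hcon
      push Not at hcon
      have := mul_le_mul_of_nonneg_left hcon (by omega : (0 : ℤ) ≤ Nat.card H)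
      linarith
    have h3 : 0 < ((Nat.card H : ℤ) - 1) * ((k : ℤ) - n) := by linarith
    exact (pos_iff_pos_of_mul_pos h3).mp (by omega)
  · rw [hd, Int.cast_sub, Int.cast_natCast, ← hcn]
    linear_combination hk

/-- The split case is impossible. -/
theorem not_fixed {μ : stabilizer G a → ℂ} (hμ : Cfsg.IsIrrCharacter _ μ) (hμ1 : μ 1 = 1)
    (hμH : ∀ v : stabilizer G a, (v : G) ∈ H → μ v = μ 1) (hμne : μ ≠ fun _ => 1)
    {s : G} (hs : Swap a b s) : ¬ (fun x => res a b μ (sig hs x)) = res a b μ := by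
  intro hfix
  have hres := D.res_irr hμ hμH
  suffices hreal : ∀ x, conj (res a b μ x) = res a b μ x by
    refine hμne (D.eq_of_res hμ isIrrCharacter_one hμH (fun _ _ => rfl) ?_)
    rw [eq_one_of_real D.odd hres hreal]
    rfl
  by_cases hev : Even (Nat.card H)
  · intro x
    rw [← IsCharacter.inv (IsIrrCharacter.isCharacter hres) x, ← D.sig_eq_inv hev hs x]
    exact congrFun hfix x
  have hoddN : Odd (Nat.card ↥(Subgroup.normalizer (H : Set G))) := by
    rw [D.normalizer_eq, D.card_stab]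
    exact (Nat.not_even_iff_odd.mp hev).mul D.odd
  have hne : ¬ Subgroup.normalizer (H : Set G) ≤ H := fun h => by
    have h1 := Subgroup.card_le_of_le h
    rw [D.normalizer_eq, D.card_stab] at h1
    have := D.three_le_e
    have := D.two_le_h
    have : Nat.card H * 3 ≤ Nat.card H * Nat.card (two (G := G) a b) := Nat.mul_le_mul_left _ D.three_le_e
    omega
  obtain ⟨T, w, hw⟩ := D.exists_exc
    (CohTI.coherent_TI H D.tiSubset hoddN D.H_ne_bot hne D.frob_normalizer)
  set χ : G → ℂ := Cfsg.indFun (stabilizer G a) μ with hχdef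
  have hχc : Cfsg.IsClassFunction G χ := isClassFunction_indFun _ μ
  have hnorm : Cfsg.classInner χ χ = 2 := by rw [hχdef, D.norm_ind hμ hμH hs, if_pos hfix]
  obtain ⟨θ, θ', hθ, hθ', hθθ, hsum⟩ :=
    split_two (isCharacter_indFun _ (IsIrrCharacter.isCharacter hμ)) hnorm
  rw [← hχdef] at hsum
  have hχH : ∀ u ∈ H, u ≠ 1 → χ u = 1 := fun u hu hu1 => by
    rw [hχdef, D.ind_H hμH hu hu1, hμ1]
  have hexc : ∀ {φ φ' : G → ℂ}, Cfsg.IsIrrCharacter G φ → Cfsg.IsIrrCharacter G φ' → φ ≠ φ' →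
      χ = φ + φ' → ∀ ξ ∈ T, Cfsg.classInner φ (w ξ) ≠ 0 → Cfsg.conjFun χ = χ := by
    intro φ φ' hφ hφ' hne' hχ ξ hξ hφξ
    obtain ⟨hξi, hξr⟩ := D.exc_irr hw hξ
    set ξ' : ↥(Subgroup.normalizer (H : Set G)) → ℂ := Cfsg.conjFun ξ with hξ'def
    have hξ' : ξ' ∈ T := (hw.mem _).mpr (IndSet.conj_mem_above _ _ ((hw.mem ξ).mp hξ))
    have hξξ : ξ' ≠ ξ := fun e => by
      obtain ⟨k, -, hk⟩ := hξr
      have h1 := eq_one_of_real hoddN hξi (fun g => congrFun e g)
      exact hk (by rw [h1])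
    obtain ⟨d, hd0, hd⟩ := IsIrrCharacter.exists_degree hξi
    have hd' : ξ' 1 = d := by rw [hξ'def, Cfsg.conjFun, hd, map_natCast]
    have hdne : (d : ℂ) ≠ 0 := Nat.cast_ne_zero.mpr hd0.ne'
    have h1 : Cfsg.classInner χ (w ξ) = Cfsg.classInner χ (w ξ') := by
      have h := D.inner_diff hw hχc hχH hξ hξ'
      rw [hd, hd', map_natCast] at h
      exact mul_left_cancel₀ hdne h
    have hdiff := hw.diff ξ hξ ξ' hξ'
    rw [hd, hd', ← smul_sub, ← smul_sub, indFun_smul] at hdiff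
    have hdiff' := smul_right_injective (G → ℂ) hdne hdiff
    obtain ⟨ε, hε, hwξ⟩ : ∃ ε : ℂ, (ε = 1 ∨ ε = -1) ∧ w ξ = ε • φ := by
      rcases hw.eq_or_neg hφ hξ hφξ with e | e
      · exact ⟨1, Or.inl rfl, by rw [e, one_smul]⟩
      · exact ⟨-1, Or.inr rfl, by rw [e, neg_one_smul]⟩
    have hεε : conj ε * ε = 1 ∧ conj ε = ε ∧ ε ≠ 0 := by rcases hε with rfl | rfl <;> simp
    have horth : Cfsg.classInner (w ξ') (w ξ) = 0 := by rw [hw.orth ξ' hξ' ξ hξ, if_neg hξξ]
    rw [hwξ, classInner_smul_right, hεε.2.1] at horth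
    have hφw : Cfsg.classInner φ (w ξ') = 0 := by
      rw [← classInner_conj_symm, (mul_eq_zero.mp horth).resolve_left hεε.2.2, map_zero]
    rw [hwξ, classInner_smul_right, hεε.2.1, hχ, classInner_add_left, classInner_add_left, hφw,
      zero_add, classInner_self_irr hφ, classInner_irr_of_ne hφ' hφ (Ne.symm hne'), add_zero,
      mul_one] at h1
    have hwξ' : w ξ' = ε • φ' := by
      rcases hw.eq_or_neg hφ' hξ' (by rw [← h1]; exact hεε.2.2) with e | e
      · rw [e, classInner_self_irr hφ'] at h1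
        rw [e, h1, one_smul]
      · rw [e, classInner_neg_right, classInner_self_irr hφ'] at h1
        rw [e, h1, neg_one_smul]
    rw [hwξ, hwξ', ← smul_sub] at hdiff'
    have hconj : Cfsg.conjFun (ξ - ξ') = -(ξ - ξ') := by
      funext g
      simp [Cfsg.conjFun, hξ'def]
    have h2 := congrArg Cfsg.conjFun hdiff'
    rw [IndSet.conjFun_indFun, hconj, indFun_neg, ← hdiff'] at h2
    have h3 : Cfsg.conjFun φ - Cfsg.conjFun φ' = φ' - φ := by
      funext g
      have := congrFun h2 g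
      simp only [Cfsg.conjFun, Pi.neg_apply, Pi.smul_apply, Pi.sub_apply, smul_eq_mul, map_mul,
        map_sub, hεε.2.1] at this
      simp only [Cfsg.conjFun, Pi.sub_apply]
      refine mul_left_cancel₀ hεε.2.2 ?_
      rw [this]; ring
    have h4 := congrArg (fun f => Cfsg.classInner f φ) h3
    simp only [classInner_sub_left, classInner_self_irr hφ,
      classInner_irr_of_ne hφ' hφ (Ne.symm hne'), zero_sub] at h4
    have hc' : Cfsg.conjFun φ' = φ := by
      by_contra hcne
      have hcφ' : Cfsg.IsIrrCharacter G (Cfsg.conjFun φ') := IsIrrCharacter.conj hφ'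
      have hcφ : Cfsg.IsIrrCharacter G (Cfsg.conjFun φ) := IsIrrCharacter.conj hφ
      rw [classInner_irr_of_ne hcφ' hφ hcne, sub_zero] at h4
      by_cases hcc : Cfsg.conjFun φ = φ
      · rw [hcc, classInner_self_irr hφ] at h4; norm_num at h4
      · rw [classInner_irr_of_ne hcφ hφ hcc] at h4; norm_num at h4
    have hc : Cfsg.conjFun φ = φ' := by rw [← hc', Coherence.conjFun_conjFun]
    funext g
    have e1 := congrFun hc g
    have e2 := congrFun hc' g
    simp only [Cfsg.conjFun] at e1 e2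
    simp only [Cfsg.conjFun, hχ, Pi.add_apply, map_add, e1, e2, add_comm]
  have hreal : Cfsg.conjFun χ = χ := by
    by_cases h1 : ∃ ξ ∈ T, Cfsg.classInner θ (w ξ) ≠ 0
    · obtain ⟨ξ, hξ, h⟩ := h1
      exact hexc hθ hθ' hθθ hsum ξ hξ h
    by_cases h2 : ∃ ξ ∈ T, Cfsg.classInner θ' (w ξ) ≠ 0
    · obtain ⟨ξ, hξ, h⟩ := h2
      exact hexc hθ' hθ (Ne.symm hθθ) (hsum.trans (add_comm _ _)) ξ hξ h
    exfalso
    push Not at h1 h2
    obtain ⟨c, hc⟩ := D.const_of_orth hw (IsCharacter.isClassFunction (IsIrrCharacter.isCharacter hθ)) h1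
    obtain ⟨c', hc'⟩ := D.const_of_orth hw (IsCharacter.isClassFunction (IsIrrCharacter.isCharacter hθ')) h2
    have hne1 : ∀ {φ : G → ℂ}, Cfsg.classInner χ φ = 1 → φ ≠ fun _ => 1 := by
      intro φ hφ e
      rw [e, hχdef, classInner_indFun_left _ _ (fun _ _ => rfl)] at hφ
      rw [classInner_irr_of_ne hμ isIrrCharacter_one hμne] at hφ
      exact zero_ne_one hφ
    have hi : Cfsg.classInner χ θ = 1 := by
      rw [hsum, classInner_add_left, classInner_self_irr hθ,
        classInner_irr_of_ne hθ' hθ (Ne.symm hθθ), add_zero]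
    have hi' : Cfsg.classInner χ θ' = 1 := by
      rw [hsum, classInner_add_left, classInner_self_irr hθ', classInner_irr_of_ne hθ hθ' hθθ, zero_add]
    obtain ⟨k, j, hj, hk, hd⟩ := D.exists_defect hθ (hne1 hi) hc
    obtain ⟨k', j', hj', hk', hd'⟩ := D.exists_defect hθ' (hne1 hi') hc'
    obtain ⟨u, hu, hu1⟩ := (Subgroup.bot_or_exists_ne_one H).resolve_left D.H_ne_bot
    have hcc : c + c' = 1 := by rw [← hc u hu hu1, ← hc' u hu hu1, ← hχH u hu hu1, hsum]; rfl
    have hdd : θ 1 + θ' 1 = (Nat.card H : ℂ) + 1 := by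
      have := congrFun hsum 1
      rw [hχdef, D.ind_one, hμ1, mul_one] at this
      exact this.symm
    have hh := D.two_le_h
    have hH0 : (Nat.card H : ℂ) ≠ 0 := Nat.cast_ne_zero.mpr Nat.card_pos.ne'
    have hkk : (k : ℂ) + k' = 2 := mul_left_cancel₀ hH0 (by
      linear_combination -hk - hk' + hdd + ((Nat.card H : ℂ) - 1) * hcc)
    have hjj : ((Nat.card H : ℤ) - 1) * (j + j') = (Nat.card H : ℤ) - 1 := by
      have : ((((Nat.card H : ℤ) - 1) * (j + j') : ℤ) : ℂ) = (((Nat.card H : ℤ) - 1 : ℤ) : ℂ) := by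
        push_cast
        linear_combination -hd - hd' + hdd - hkk
      exact_mod_cast this
    nlinarith
  intro x
  have hμc := IsCharacter.isClassFunction (IsIrrCharacter.isCharacter hμ)
  set μ' : stabilizer G a → ℂ := Cfsg.conjFun μ with hμ'def
  have hμ'i : Cfsg.IsIrrCharacter _ μ' := IsIrrCharacter.conj hμ
  have hμ'H : ∀ v : stabilizer G a, (v : G) ∈ H → μ' v = μ' 1 := fun v hv => congrArg conj (hμH v hv)
  rw [hχdef, IndSet.conjFun_indFun] at hreal
  have h := D.inner_ind hμc (IsCharacter.isClassFunction (IsIrrCharacter.isCharacter hμ'i)) hμH hμ'H hs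
  rw [hμ'def, hreal, ← hχdef, hnorm, ← hμ'def] at h
  by_contra hx
  have hne' : res a b μ ≠ res a b μ' := fun e => hx (congrFun e.symm x)
  have hsig : (fun x => res a b μ' (sig hs x)) = res a b μ' := by
    funext y
    exact congrArg conj (congrFun hfix y)
  rw [hsig, classInner_irr_of_ne hres (D.res_irr hμ'i hμ'H) hne'] at h
  norm_num at h

end Data

end Cfsg.Agent.Zass
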