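/-
Doubly transitive groups in which only the identity fixes three points, with a regular normal
subgroup: the degree is `2 ^ p` for a prime `p`.
-/
import Cfsg.Agent.Lib.Char.FrobeniusKernel
import Cfsg.Agent.Lib.Solvable.Frobenius
import Cfsg.Agent.Lib.CN.FpfAut
import Cfsg.Agent.Lib.Suzuki2.Coord
import Mathlib.GroupTheory.GroupAction.MultipleTransitivity

set_option autoImplicit false

namespace Cfsg.Agent.ZassRegular

open MulAction

universe u v

variable {G : Type u} [Group G] {Ω : Type v} [MulAction G Ω]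

/-- The prime of the fixed field: an automorphism of prime order fixing only zero and one. -/
theorem card_eq_two_pow {F : Type v} [Field F] [Fintype F] {p : ℕ} (hp : p.Prime) (σ : RingAut F)
    (hord : orderOf σ = p) (hfix : ∀ z : F, σ z = z → z = 0 ∨ z = 1) :
    Fintype.card F = 2 ^ p := by
  classical
  haveI : Finite (RingAut F) := Finite.of_injective (fun τ => (τ : F → F)) DFunLike.coe_injective
  set H := Subgroup.zpowers σ with hH
  haveI := Fintype.ofFinite H
  set L := FixedPoints.subfield H F with hL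
  haveI := Fintype.ofFinite L
  have hmem : ∀ z : F, z ∈ L → z = 0 ∨ z = 1 := fun z hz =>
    hfix z (hz ⟨σ, Subgroup.mem_zpowers σ⟩)
  have hL2 : Fintype.card L = 2 := by
    rw [Fintype.card_eq_nat_card]
    refine Nat.card_eq_two_iff.2 ⟨0, 1, zero_ne_one, Set.eq_univ_of_forall fun z => ?_⟩
    rcases hmem z z.2 with h | h
    · exact Or.inl (Subtype.ext h)
    · exact Or.inr (Subtype.ext h)
  rw [Module.card_eq_pow_finrank (K := L), hL2, hL, FixedPoints.finrank_eq_card H F,
    Fintype.card_eq_nat_card, hH, Nat.card_zpowers, hord]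

/-- The degree is a power of two with prime exponent. -/
theorem exists_prime_pow [Fintype Ω] [FaithfulSMul G Ω]
    (h2 : MulAction.IsMultiplyPretransitive G Ω 2)
    (h3 : ∀ g : G, ∀ a b c : Ω, a ≠ b → b ≠ c → a ≠ c → g • a = a → g • b = b → g • c = c → g = 1)
    (hfix : ∃ g : G, g ≠ 1 ∧ ∃ a b : Ω, a ≠ b ∧ g • a = a ∧ g • b = b)
    (N : Subgroup G) [N.Normal] (hNt : MulAction.IsPretransitive N Ω)
    (hNr : ∀ a : Ω, MulAction.stabilizer N a = ⊥) :
    ∃ p : ℕ, p.Prime ∧ Fintype.card Ω = 2 ^ p := by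
  classical
  haveI : Finite G := Finite.of_injective (fun g : G => fun z : Ω => g • z)
    fun g g' e => FaithfulSMul.eq_of_smul_eq_smul fun z : Ω => congrFun e z
  obtain ⟨g0, hg0, a, b, hab, hga, hgb⟩ := hfix
  have hmove : ∀ {x y z w : Ω}, x ≠ y → z ≠ w → ∃ g : G, g • x = z ∧ g • y = w := fun h h' =>
    (is_two_pretransitive_iff.mp h2) h h'
  obtain ⟨c, hca, hcb⟩ : ∃ c, c ≠ a ∧ c ≠ b := by
    by_contra! h
    refine hg0 (FaithfulSMul.eq_of_smul_eq_smul (α := Ω) fun z => ?_)
    rw [one_smul]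
    rcases eq_or_ne z a with rfl | hz
    · exact hga
    · rw [h z hz, hgb]
  -- translations
  have hN1 : ∀ {m : N} {z : Ω}, (m : G) • z = z → m = 1 := fun {m z} h =>
    Subgroup.mem_bot.1 ((hNr z) ▸ (show m ∈ MulAction.stabilizer N z from h))
  have hNbij : Function.Bijective (fun m : N => (m : G) • a) := by
    refine ⟨fun m m' e => ?_, fun z => ?_⟩
    · have e' : ((m'⁻¹ * m : N) : G) • a = a := by
        rw [Subgroup.coe_mul, Subgroup.coe_inv, mul_smul, show (m : G) • a = (m' : G) • a from e,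
          inv_smul_smul]
      exact (inv_mul_eq_one.1 (hN1 e')).symm
    · obtain ⟨m, hm⟩ := hNt.exists_smul_eq a z
      exact ⟨m, hm⟩
  have hcardN : Nat.card N = Fintype.card Ω := by
    rw [Nat.card_congr (Equiv.ofBijective _ hNbij), Nat.card_eq_fintype_card]
  haveI : Nontrivial N := by
    rw [← Finite.one_lt_card_iff_nontrivial, hcardN]
    exact Fintype.one_lt_card_iff.2 ⟨a, b, hab⟩
  set S := MulAction.stabilizer G a with hS
  let φ : S →* MulAut N := (MulAut.conjNormal (H := N)).comp S.subtype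
  have hφa : ∀ (s : S) (m : N), ((φ s m : N) : G) • a = (s : G) • ((m : G) • a) := by
    intro s m
    show ((MulAut.conjNormal (s : G) m : N) : G) • a = _
    rw [MulAut.conjNormal_apply, mul_smul, mul_smul, inv_smul_eq_iff.2 (show (s : G) • a = a from s.2).symm]
  have hφtrans : ∀ m m' : N, m ≠ 1 → m' ≠ 1 → ∃ s : S, φ s m = m' := by
    intro m m' hm hm'
    obtain ⟨g, g1, g2⟩ := hmove (x := a) (y := (m : G) • a) (z := a) (w := (m' : G) • a)
      (fun e => hm (hN1 e.symm)) (fun e => hm' (hN1 e.symm))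
    exact ⟨⟨g, g1⟩, hNbij.1 (by show _ • a = _ • a; rw [hφa]; exact g2)⟩
  -- elementary abelian of exponent two
  set E : Subgroup S := (MulAction.stabilizer G b).subgroupOf S with hE
  have hfixN : ∀ {x : S}, x ∈ E → x ≠ 1 → ∀ m : N, φ x m = m → (m : G) • a = a ∨ (m : G) • a = b := by
    intro x hx hx1 m hm
    by_contra! h
    refine hx1 (Subtype.ext (h3 x a b ((m : G) • a) hab h.2.symm h.1.symm x.2 hx ?_))
    rw [← hφa, hm]
  obtain ⟨nb, hnb⟩ := hNbij.2 b
  have hnb' : (nb : G) • a = b := hnb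
  have hnb1 : nb ≠ 1 := fun e => hab (by rw [← hnb', e, Subgroup.coe_one, one_smul])
  let g0' : S := ⟨g0, hga⟩
  have hg0E : g0' ∈ E := hgb
  have hg0' : g0' ≠ 1 := fun e => hg0 (congrArg Subtype.val e)
  have hφnb : ∀ {x : S}, x ∈ E → φ x nb = nb := fun {x} hx =>
    hNbij.1 (by show _ • a = _ • a; rw [hφa, hnb']; exact hx)
  have hnb2 : nb * nb = 1 := by
    rcases hfixN hg0E hg0' (nb * nb) (by rw [map_mul, hφnb hg0E]) with h | h
    · exact hN1 h
    · exact absurd (left_eq_mul.1 ((hNbij.1 (h.trans hnb'.symm) : nb * nb = nb).symm)) hnb1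
  have hexp : ∀ m : N, m * m = 1 := by
    intro m
    rcases eq_or_ne m 1 with rfl | hm
    · exact one_mul 1
    obtain ⟨s, rfl⟩ := hφtrans nb m hnb1 hm
    rw [← map_mul, hnb2, map_one]
  have hcomm : ∀ m m' : N, m * m' = m' * m := fun m m' => by
    have hab' := inv_eq_of_mul_eq_one_right (hexp (m * m'))
    rw [mul_inv_rev, inv_eq_of_mul_eq_one_right (hexp m), inv_eq_of_mul_eq_one_right (hexp m')] at hab'
    exact hab'.symm
  letI : CommGroup N := { (inferInstance : Group N) with mul_comm := hcomm }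
  -- the kernel of the point stabiliser
  have hmal : Cfsg.Agent.Char.Malnormal E := by
    intro g hg x hx hgx
    by_contra hx1
    have hgb' : (g : G) • b ≠ b := fun h => hg h
    have hga' : a ≠ (g : G) • b := fun h => hab
      ((smul_left_cancel_iff (g : G)).mp ((show (g : G) • a = a from g.2).trans h))
    have h' : ((g * x * g⁻¹ : S) : G) • ((g : G) • b) = (g : G) • b := by
      rw [Subgroup.coe_mul, Subgroup.coe_mul, Subgroup.coe_inv, mul_smul, mul_smul, inv_smul_smul,
        show (x : G) • b = b from hx]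
    exact hx1 (conj_eq_one_iff.mp
      (Subtype.ext (h3 _ a b _ hab (Ne.symm hgb') hga' (g * x * g⁻¹).2 hgx h')))
  obtain ⟨K, hKn, hKE, hKc, hKm⟩ := Cfsg.Agent.Char.exists_frobenius_kernel hmal
  haveI := hKn
  have hKfree : ∀ {k : S}, k ∈ K → k ≠ 1 → ∀ m : N, φ k m = m → m = 1 := by
    intro k hk hk1 m hm
    by_contra hm1
    have hma : a ≠ (m : G) • a := fun e => hm1 (hN1 e.symm)
    obtain ⟨s, s1, s2⟩ := hmove (x := a) (y := b) (z := a) (w := (m : G) • a) hab hma
    refine ((hKm k).1 hk).resolve_left hk1 ⟨s, s1⟩ ?_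
    show (s⁻¹ * (k : G) * s) • b = b
    rw [mul_smul, mul_smul, s2, ← hφa, hm, ← s2, inv_smul_smul]
  have hdec : ∀ s : S, ∃ k ∈ K, ∃ x ∈ E, s = k * x := by
    intro s
    have hs : s ∈ K ⊔ E := hKc.sup_eq_top ▸ Subgroup.mem_top s
    obtain ⟨k, hk, x, hx, e⟩ := Subgroup.mem_sup_of_normal_left.1 hs
    exact ⟨k, hk, x, hx, e.symm⟩
  have hKreg : ∀ m m' : N, m ≠ 1 → m' ≠ 1 → ∃! k : K, φ k m = m' := by
    intro m m' hm hm'
    have hto : ∀ m : N, m ≠ 1 → ∃ k : K, φ k nb = m := fun m hm => by
      obtain ⟨s, hs⟩ := hφtrans nb m hnb1 hm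
      obtain ⟨k, hk, x, hx, rfl⟩ := hdec s
      exact ⟨⟨k, hk⟩, by rwa [map_mul, MulAut.mul_apply, hφnb hx] at hs⟩
    obtain ⟨k1, h1⟩ := hto m hm
    obtain ⟨k2, h2'⟩ := hto m' hm'
    refine ⟨k2 * k1⁻¹, ?_, fun l hl => ?_⟩
    · show φ ((k2 : S) * (k1 : S)⁻¹) m = m'
      rw [map_mul, map_inv, MulAut.mul_apply, ← h1, MulAut.inv_apply_self, h2']
    · by_contra hne
      refine hm (hKfree (k := ((k2 * k1⁻¹)⁻¹ * l : K)) (Subtype.mem _) ?_ m ?_)
      · intro e
        exact hne (inv_mul_eq_one.1 (Subtype.ext e)).symm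
      · show φ (((k2 : S) * (k1 : S)⁻¹)⁻¹ * (l : S)) m = m
        rw [map_mul, MulAut.mul_apply, hl, ← h2', ← h1, mul_inv_rev, inv_inv, map_mul, map_inv,
          MulAut.mul_apply, MulAut.inv_apply_self]
  have hcardK : Nat.card K + 1 = Nat.card N := by
    let f : K → {m : N // m ≠ 1} := fun k => ⟨φ k nb, fun e => hnb1 ((φ k).injective (e.trans (map_one _).symm))⟩
    have hf : Function.Bijective f := ⟨fun k l e =>
      (hKreg nb _ hnb1 (fun e' => hnb1 ((φ l).injective (e'.trans (map_one _).symm)))).unique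
        (congrArg Subtype.val e) rfl, fun m => by
          obtain ⟨k, hk⟩ := (hKreg nb m hnb1 m.2).exists
          exact ⟨k, Subtype.ext hk⟩⟩
    haveI := Fintype.ofFinite N
    rw [Nat.card_congr (Equiv.ofBijective f hf), Nat.card_eq_fintype_card, Nat.card_eq_fintype_card,
      Fintype.card_subtype_compl, Fintype.card_subtype_eq]
    have := Fintype.one_lt_card (α := N)
    omega
  -- the kernel is cyclic
  have hE1 : E ≠ ⊥ := fun e => hg0' (Subgroup.mem_bot.1 (e ▸ hg0E))
  have hKfpf : ∀ x ∈ E, x ≠ 1 → K ⊓ Subgroup.centralizer {x} = ⊥ := by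
    intro x hx hx1
    refine eq_bot_iff.2 fun k hk => ?_
    obtain ⟨hkK, hkc⟩ := Subgroup.mem_inf.1 hk
    by_contra hk1
    have hkE : k ∉ E := fun h => hk1 (hKE ▸ Subgroup.mem_inf.2 ⟨hkK, h⟩)
    refine hx1 (hmal k hkE x hx ?_)
    rw [Subgroup.mem_centralizer_singleton_iff.1 hkc, mul_inv_cancel_right]
    exact hx
  haveI : Group.IsNilpotent K := Cfsg.Agent.FrobeniusStruct.nilpotent_of_fpf hE1 hKfpf
  haveI : IsZGroup K := ⟨fun r hr P => by
    haveI := Fact.mk hr
    rcases eq_or_ne (P : Subgroup K) ⊥ with hP | hP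
    · rw [hP]; infer_instance
    refine Cfsg.Agent.CN.isCyclic_of_fpf P.isPGroup' ?_ ((φ.comp K.subtype).comp (P : Subgroup K).subtype)
      fun x hx m hm => hKfree (x : K).2 (fun e => hx (Subtype.ext (Subtype.ext e))) m hm
    rintro rfl
    haveI : Fact (Nat.Prime 2) := Fact.mk hr
    obtain ⟨j, hj⟩ := IsPGroup.iff_card.1 P.isPGroup'
    have hj0 : j ≠ 0 := fun e => hP (Subgroup.card_eq_one.1 (by rw [hj, e, pow_zero]))
    have hdvd : 2 ∣ Nat.card K := (dvd_pow_self 2 hj0).trans (hj ▸ Subgroup.card_subgroup_dvd_card _)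
    have hN2 : IsPGroup 2 N := fun m => ⟨1, by rw [pow_one, pow_two, hexp]⟩
    obtain ⟨i, hi⟩ := IsPGroup.iff_card.1 hN2
    have : 1 < Nat.card N := Finite.one_lt_card
    have hi0 : i ≠ 0 := fun e => by rw [hi, e, pow_zero] at this; omega
    have h2N : 2 ∣ Nat.card N := hi ▸ dvd_pow_self 2 hi0
    omega⟩
  have hKcomm : ∀ k l : K, k * l = l * k := (IsCyclic.commGroup (α := K)).mul_comm
  -- the field
  obtain ⟨F, _, _, _, e0, gK, hgK⟩ := Suzuki2.exists_field (U := Additive N) (K := K)
    (fun k u => Additive.ofMul (φ k u.toMul))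
    (fun u => by simp)
    (fun k l u => by simp [MulAut.mul_apply])
    (fun k u w => by simp)
    (fun u => Additive.toMul.injective (hexp u.toMul))
    hKcomm
    (fun u w hu hw => by
      obtain ⟨k, hk, hk'⟩ := hKreg u.toMul w.toMul (fun e => hu (Additive.toMul.injective e))
        (fun e => hw (Additive.toMul.injective e))
      exact ⟨k, congrArg Additive.ofMul hk, fun l hl => hk' l (congrArg Additive.toMul hl)⟩)
    ⟨Additive.ofMul nb, fun e => hnb1 (congrArg Additive.toMul e)⟩
  -- an element of prime order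
  obtain ⟨p, hp, hpE⟩ := Nat.exists_prime_and_dvd (fun h => hE1 (Subgroup.card_eq_one.1 h) : Nat.card E ≠ 1)
  haveI := Fact.mk hp
  obtain ⟨x, hx⟩ := exists_prime_orderOf_dvd_card' (G := E) p hpE
  refine ⟨p, hp, ?_⟩
  set c0 : F := e0 (Additive.ofMul nb) with hc0
  have hc00 : c0 ≠ 0 := fun e => hnb1 (congrArg Additive.toMul ((AddEquiv.map_eq_zero_iff e0).1 e))
  let back : F → N := fun z => (e0.symm (c0 * z)).toMul
  have hback : ∀ z, e0 (Additive.ofMul (back z)) = c0 * z := fun z => by
    simp [back]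
  have hbackadd : ∀ z w, back (z + w) = back z * back w := fun z w => by
    simp only [back, mul_add, map_add, toMul_add]
  have hbackinj : Function.Injective back := fun z w e => by
    have := congrArg (fun m => e0 (Additive.ofMul m)) e
    simp only [hback] at this
    exact mul_left_cancel₀ hc00 this
  have hback1 : back 1 = nb := by simp [back, hc0]
  have hbacks : ∀ m, back (c0⁻¹ * e0 (Additive.ofMul m)) = m := fun m => by
    simp only [back, mul_inv_cancel_left₀ hc00, AddEquiv.symm_apply_apply, toMul_ofMul]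
  have hbackk : ∀ (k : K) z, φ k (back z) = back ((gK k : F) * z) := fun k z => by
    have := hgK k (Additive.ofMul (back z))
    rw [hback, toMul_ofMul] at this
    rw [← hbacks (φ k (back z)), this]
    congr 1
    field_simp
  let f : F → F := fun z => c0⁻¹ * e0 (Additive.ofMul (φ (x : S) (back z)))
  have hf : ∀ z, back (f z) = φ (x : S) (back z) := fun z => hbacks _
  have hfadd : ∀ z w, f (z + w) = f z + f w := fun z w => hbackinj (by
    rw [hf, hbackadd, hbackadd, hf, hf, map_mul])
  have hf1 : f 1 = 1 := hbackinj (by rw [hf, hback1, hφnb x.2])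
  have hfmul : ∀ z w, f (z * w) = f z * f w := by
    intro z w
    rcases eq_or_ne z 0 with rfl | hz
    · have h0 : f 0 = 0 := by
        have h := hfadd 0 0
        rw [add_zero] at h
        exact left_eq_add.1 h
      rw [zero_mul, h0, zero_mul]
    obtain ⟨k, hk⟩ := gK.surjective (Units.mk0 z hz)
    let k' : K := ⟨(x : S) * k * (x : S)⁻¹, hKn.conj_mem _ k.2 _⟩
    have key : ∀ w, f ((gK k : F) * w) = (gK k' : F) * f w := fun w => hbackinj (by
      rw [hf, ← hbackk, ← hbackk, hf]
      show _ = φ ((x : S) * (k : S) * (x : S)⁻¹) (φ (x : S) (back w))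
      rw [← MulAut.mul_apply, ← MulAut.mul_apply, ← map_mul, ← map_mul, inv_mul_cancel_right])
    have h1 := key 1
    rw [mul_one, hf1, mul_one, hk, Units.val_mk0] at h1
    have h2' := key w
    rw [hk, Units.val_mk0] at h2'
    rw [h2', h1]
  have hfinj : Function.Injective f := fun z w e => by
    have := congrArg back e
    rw [hf, hf] at this
    exact hbackinj ((φ (x : S)).injective this)
  let σ : RingAut F :=
    { Equiv.ofBijective f (Finite.injective_iff_bijective.1 hfinj) with
      map_mul' := hfmul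
      map_add' := hfadd }
  have hσ : ∀ z, σ z = f z := fun z => rfl
  have hpow : ∀ (i : ℕ) z, back ((σ ^ i : RingAut F) z) = φ ((x : S) ^ i) (back z) := by
    intro i
    induction i with
    | zero => intro z; simp
    | succ i ih =>
      intro z
      rw [pow_succ', pow_succ', map_mul, MulAut.mul_apply, ← ih, ← hf]
      rfl
  have hxne : (x : S) ≠ 1 := fun e => by
    rw [show x = 1 from Subtype.ext e, orderOf_one] at hx
    exact hp.ne_one hx.symm
  have hfix : ∀ z : F, σ z = z → z = 0 ∨ z = 1 := by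
    intro z hz
    have hzz : φ (x : S) (back z) = back z := by rw [← hf, ← hσ, hz]
    rcases hfixN x.2 hxne _ hzz with h | h
    · refine Or.inl (hbackinj ?_)
      rw [hN1 h]
      have h0 := hbackadd 0 0
      rw [add_zero] at h0
      exact (left_eq_mul.1 h0).symm
    · refine Or.inr (hbackinj ?_)
      rw [hback1]
      exact hNbij.1 (h.trans hnb'.symm)
  have hord : orderOf σ = p := by
    refine orderOf_eq_prime ?_ ?_
    · refine RingEquiv.ext fun z => hbackinj ?_
      rw [hpow, show (x : S) ^ p = ((x ^ p : E) : S) from rfl, ← hx, pow_orderOf_eq_one]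
      simp
    · intro e
      obtain ⟨nc, hnc⟩ := hNbij.2 c
      obtain ⟨z, rfl⟩ : ∃ z, back z = nc := ⟨_, hbacks nc⟩
      have hz : σ z = z := by rw [e]; rfl
      have hzz : φ (x : S) (back z) = back z := by rw [← hf, ← hσ, hz]
      rcases hfixN x.2 hxne _ hzz with h | h
      · exact hca (hnc.symm.trans h)
      · exact hcb (hnc.symm.trans h)
  rw [← hcardN, ← card_eq_two_pow hp σ hord hfix, ← Nat.card_eq_fintype_card]
  exact Nat.card_congr (Additive.ofMul.trans e0.toEquiv)

end Cfsg.Agent.ZassRegular
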